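import Cfsg.Agent.Lib.Classical.OrthClassBound.Main
import Cfsg.Agent.Lib.Classical.OmegaTests
import Cfsg.Agent.Lib.Classical.OrthIndexTwo
import Cfsg.Agent.Lib.Classical.OrthDisc

/-!
Sign changes in the centraliser and the spinor norm.
-/

set_option autoImplicit false
set_option linter.style.haveILetI false
set_option linter.unusedSectionVars false

namespace CfsgLib.Classical.OmegaOddClassBound

open Polynomial Module Matrix CfsgLib.Orth CfsgLib.Classical.SpClassBound

open scoped _root_.Classical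

variable {K : Type*} [Field K]

section disc

variable {V : Type*} [AddCommGroup V] [Module K V] [FiniteDimensional K V] {B : LinearMap.BilinForm K V}

/-- The discriminant of a subspace. -/
noncomputable def disc (B : LinearMap.BilinForm K V) (S : Submodule K V) : K :=
  (LinearMap.toMatrix₂ (Module.finBasis K S) (Module.finBasis K S) (B.restrict S)).det

theorem disc_basis (S : Submodule K V) {κ : Type*} [Fintype κ] [DecidableEq κ] (c : Basis κ K S) :
    ∃ t : K, t ≠ 0 ∧ disc B S = t * t * (LinearMap.toMatrix₂ c c (B.restrict S)).det :=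
  SymmDisc.toMatrix_change (B.restrict S) _ c ((Module.finBasis K S).indexEquiv c)

theorem disc_ne_zero {S : Submodule K V} (hS : Nd B S) : disc B S ≠ 0 :=
  SymmDisc.det_ne_zero _ (fun v hv => Subtype.ext (hS v v.2 fun y hy => hv ⟨y, hy⟩)) _

theorem disc_compl {S W : Submodule K V} (hc : IsCompl S W) (ho : ∀ s ∈ S, ∀ w ∈ W, B s w = 0)
    (ho' : ∀ s ∈ S, ∀ w ∈ W, B w s = 0) {κ : Type*} [Fintype κ] [DecidableEq κ] (b : Basis κ K V) :
    ∃ t : K, t ≠ 0 ∧ (LinearMap.toMatrix₂ b b B).det = t * t * (disc B S * disc B W) := by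
  let bS := Module.finBasis K S
  let bW := Module.finBasis K W
  let c := (bS.prod bW).map (Submodule.prodEquivOfIsCompl S W hc)
  have hl : ∀ i, c (Sum.inl i) = (bS i : V) := fun i => by simp [c]
  have hr : ∀ i, c (Sum.inr i) = (bW i : V) := fun i => by simp [c]
  obtain ⟨t, ht, h⟩ := SymmDisc.toMatrix_change B b c (b.indexEquiv c)
  refine ⟨t, ht, ?_⟩
  rw [h, show LinearMap.toMatrix₂ c c B = Matrix.fromBlocks (LinearMap.toMatrix₂ bS bS (B.restrict S)) 0 0
      (LinearMap.toMatrix₂ bW bW (B.restrict W)) by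
    ext i j
    rcases i with i | i <;> rcases j with j | j <;>
      simp [LinearMap.toMatrix₂_apply, hl, hr, ho _ (bS _).2 _ (bW _).2, ho' _ (bS _).2 _ (bW _).2],
    Matrix.det_fromBlocks_zero₁₂]
  rfl

/-- An alternating non-degenerate form has square determinant. -/
theorem isSquare_det_alt (C : LinearMap.BilinForm K V) (hA : C.IsAlt) (hC : ∀ v, (∀ w, C v w = 0) → v = 0)
    {κ : Type*} [Fintype κ] [DecidableEq κ] (b : Basis κ K V) : IsSquare (LinearMap.toMatrix₂ b b C).det := by
  obtain ⟨k, c, c1, c2, c3⟩ := CfsgLib.Forms.exists_symplectic_basis_nondeg C hA hC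
  obtain ⟨t, -, h⟩ := SymmDisc.toMatrix_change C b c (b.indexEquiv c)
  have hneg : ∀ x y, C y x = -C x y := fun x y => by
    have h := hA (x + y)
    simp only [map_add, LinearMap.add_apply, hA x, hA y] at h
    linear_combination h
  have e : LinearMap.toMatrix₂ c c C = -Matrix.J (Fin k) K := by
    ext i j
    rcases i with i | i <;> rcases j with j | j
    all_goals rw [LinearMap.toMatrix₂_apply]
    · simp [Matrix.J, c2]
    · simp [Matrix.J, c1, Matrix.one_apply]
    · rw [hneg, c1]; simp [Matrix.J, Matrix.one_apply, eq_comm]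
    · simp [Matrix.J, c3]
  rw [h, e, Matrix.det_neg, Fintype.card_sum, ← two_mul, pow_mul, neg_one_sq, one_pow, one_mul,
    SymplecticGroup.det_eq_one (SymplecticGroup.J_mem _ _), mul_one]
  exact IsSquare.mul_self t

end disc

variable [Fintype K] {ι : Type} [Fintype ι] [DecidableEq ι] {Q : QuadraticForm K (ι → K)}

/-- Sign changes along an orthogonal frame. -/
theorem exists_sign_element (hB : Nondeg Q) (h2 : (2 : K) ≠ 0) (hn : 2 ≤ Module.finrank K (ι → K))
    {κ : Type*} [Fintype κ] (e : κ → ι → K) (he : ∀ i, Q (e i) ≠ 0)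
    (hp : ∀ i j, i ≠ j → QuadraticMap.polar ⇑Q (e i) (e j) = 0) (s : Finset κ) :
    ∃ g : Grp Q, (∀ i, ap g (e i) = if i ∈ s then -e i else e i) ∧ dickson hB g = (-1) ^ s.card ∧
      (Even s.card → spinor Q 1 g = sqc (∏ i ∈ s, Q (e i))) := by
  obtain ⟨ε, hε⟩ := exists_eps hB h2 hn
  have key : ∀ s : Finset κ, ∃ g : Grp Q,
      (∀ i, ap g (e i) = if i ∈ s then -e i else e i) ∧ dickson hB g = (-1) ^ s.card ∧
      spinor Q 1 g = ε ^ s.card * sqc (∏ i ∈ s, Q (e i)) := by
    intro s
    induction s using Finset.induction_on with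
    | empty =>
        refine ⟨1, fun i => by simp, by simp, ?_⟩
        rw [map_one, Finset.card_empty, pow_zero, Finset.prod_empty, one_mul, sqc_eq_one.2 IsSquare.one]
    | insert j s hj ih =>
        obtain ⟨g, hg1, hg2, hg3⟩ := ih
        obtain ⟨r, hr⟩ := exists_refl hB (he j)
        refine ⟨r * g, fun i => ?_, ?_, ?_⟩
        · rw [ap_mul, hg1]
          by_cases hij : i = j
          · subst hij
            rw [if_neg hj, if_pos (Finset.mem_insert_self i s), refl_self hr]
          · have hfix : ap r (e i) = e i := refl_fix hr (hp j i (Ne.symm hij))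
            by_cases his : i ∈ s
            · rw [if_pos his, if_pos (Finset.mem_insert_of_mem his), ← neg_one_smul K (e i),
                ap_smul, hfix]
            · rw [if_neg his, if_neg (by simp [hij, his]), hfix]
        · rw [map_mul, hg2, dickson_refl hB hr, Finset.card_insert_of_notMem hj, pow_succ']
        · rw [map_mul, hg3, hε _ _ hr, Finset.card_insert_of_notMem hj,
            Finset.prod_insert hj, sqc_mul (he j) (Finset.prod_ne_zero_iff.2 fun i _ => he i), pow_succ']
          exact mul_mul_mul_comm _ _ _ _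
  obtain ⟨g, h1, h2', h3⟩ := key s
  refine ⟨g, h1, h2', fun ⟨k, hk⟩ => ?_⟩
  rw [h3, hk, ← two_mul, pow_mul, Int.units_sq, one_pow, one_mul]

/-- The centraliser inside the rotations consists of elements of spinor norm one. -/
def Good (g : Grp Q) : Prop := ∀ y ∈ Cfsg.specialIsometryGroup K ⇑Q, Commute g y → y ∈ Cfsg.Omega K ⇑Q

theorem exists_frame (hB : Nondeg Q) (h2 : (2 : K) ≠ 0) {S : Submodule K (ι → K)} (hS : Nd (QuadraticMap.polarBilin Q) S) :
    ∃ c : Basis (Fin (finrank K S)) K S, (∀ i, Q (c i : ι → K) ≠ 0) ∧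
      (∀ i j, i ≠ j → QuadraticMap.polar ⇑Q (c i : ι → K) (c j : ι → K) = 0) ∧
      (LinearMap.toMatrix₂ c c (LinearMap.BilinForm.restrict (QuadraticMap.polarBilin Q) S)).det =
        2 ^ finrank K S * ∏ i, Q (c i : ι → K) := by
  letI : Invertible (2 : K) := invertibleOfNonzero h2
  set C := LinearMap.BilinForm.restrict (QuadraticMap.polarBilin Q) S
  obtain ⟨c, hc⟩ := LinearMap.BilinForm.exists_orthogonal_basis (B := C) ⟨fun x y => by
    show QuadraticMap.polar ⇑Q _ _ = QuadraticMap.polar ⇑Q _ _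
    exact QuadraticMap.polar_comm _ _ _⟩
  have horth : ∀ i j, i ≠ j → QuadraticMap.polar ⇑Q (c i : ι → K) (c j : ι → K) = 0 := fun i j h => hc h
  have hmat : LinearMap.toMatrix₂ c c C = Matrix.diagonal fun i => 2 * Q (c i : ι → K) := by
    ext i j
    rw [LinearMap.toMatrix₂_apply, Matrix.diagonal_apply]
    split_ifs with h
    · subst h
      show QuadraticMap.polar ⇑Q _ _ = _
      rw [QuadraticMap.polar_self, nsmul_eq_mul, Nat.cast_ofNat]; rfl
    · exact horth i j h
  have hdet : (LinearMap.toMatrix₂ c c C).det = 2 ^ finrank K S * ∏ i, Q (c i : ι → K) := by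
    rw [hmat, Matrix.det_diagonal, Finset.prod_mul_distrib, Finset.prod_const, Finset.card_univ, Fintype.card_fin]
  refine ⟨c, fun i h0 => ?_, horth, hdet⟩
  have hne := SymmDisc.det_ne_zero C (fun v hv => Subtype.ext (hS v v.2 fun y hy => hv ⟨y, hy⟩)) c
  rw [hdet] at hne
  exact hne (by rw [Finset.prod_eq_zero (Finset.mem_univ i) h0, mul_zero])

/-- Invariant summands of even dimension have square discriminant. -/
theorem isSquare_disc_of_good (hB : Nondeg Q) (h2 : (2 : K) ≠ 0) (hodd : Odd (Module.finrank K (ι → K)))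
    (hn : 2 ≤ Module.finrank K (ι → K)) {g : Grp Q} (hg : Good g) {W W' : Submodule K (ι → K)} (hc : IsCompl W W')
    (ho : ∀ s ∈ W, ∀ w ∈ W', QuadraticMap.polar ⇑Q s w = 0) (hW : Nd (QuadraticMap.polarBilin Q) W)
    (hW' : Nd (QuadraticMap.polarBilin Q) W') (hgW : ∀ x ∈ W, ap g x ∈ W) (hgW' : ∀ x ∈ W', ap g x ∈ W')
    (hev : Even (finrank K W)) : IsSquare (disc (QuadraticMap.polarBilin Q) W) := by
  obtain ⟨c, hc0, hco, hcdet⟩ := exists_frame hB h2 hW
  obtain ⟨d, hd0, hdo, -⟩ := exists_frame hB h2 hW'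
  let e : Fin (finrank K W) ⊕ Fin (finrank K W') → ι → K := Sum.elim (fun i => (c i : ι → K)) (fun i => (d i : ι → K))
  have he : ∀ i, Q (e i) ≠ 0 := by rintro (i | i) <;> simp [e, hc0, hd0]
  have hp : ∀ i j, i ≠ j → QuadraticMap.polar ⇑Q (e i) (e j) = 0 := by
    rintro (i | i) (j | j) hij
    · exact hco i j fun h => hij (by rw [h])
    · exact ho _ (c i).2 _ (d j).2
    · rw [QuadraticMap.polar_comm]; exact ho _ (c j).2 _ (d i).2
    · exact hdo i j fun h => hij (by rw [h])
  obtain ⟨y, hy1, hy2, hy3⟩ := exists_sign_element hB h2 hn e he hp (Finset.univ.map ⟨Sum.inl, Sum.inl_injective⟩)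
  rw [Finset.card_map, Finset.card_univ, Fintype.card_fin] at hy2 hy3
  have hex : Module.finrank K (ι → K) = 4 → Nat.card K ≠ 2 := fun h => by
    obtain ⟨k, hk⟩ := hodd
    omega
  have hysp : y ∈ Cfsg.specialIsometryGroup K ⇑Q :=
    (mem_special_iff_odd hB h2 hex y).2 (by rw [hy2, hev.neg_one_pow])
  have hyW : ∀ x ∈ W, ap y x = -x := fun x hx => by
    have hl : Matrix.toLin' ((y : GL ι K) : Matrix ι ι K) ∘ₗ W.subtype = -W.subtype := c.ext fun i => by
      simp only [LinearMap.comp_apply, Submodule.coe_subtype, Matrix.toLin'_apply, LinearMap.neg_apply]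
      exact (hy1 (Sum.inl i)).trans (if_pos (Finset.mem_map_of_mem _ (Finset.mem_univ i)))
    exact LinearMap.congr_fun hl ⟨x, hx⟩
  have hyW' : ∀ x ∈ W', ap y x = x := fun x hx => by
    have hl : Matrix.toLin' ((y : GL ι K) : Matrix ι ι K) ∘ₗ W'.subtype = W'.subtype := d.ext fun i => by
      simp only [LinearMap.comp_apply, Submodule.coe_subtype, Matrix.toLin'_apply]
      exact (hy1 (Sum.inr i)).trans (if_neg (by simp))
    exact LinearMap.congr_fun hl ⟨x, hx⟩
  have hcomm : Commute g y := Subtype.ext (Units.ext (Matrix.toLin'.injective (LinearMap.ext fun x => by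
    obtain ⟨u, hu, w, hw, rfl⟩ : ∃ u ∈ W, ∃ w ∈ W', u + w = x :=
      Submodule.mem_sup.mp (hc.sup_eq_top ▸ Submodule.mem_top)
    show ap (g * y) (u + w) = ap (y * g) (u + w)
    simp only [ap_mul, ap_add, hyW u hu, hyW' w hw, hyW _ (hgW u hu), hyW' _ (hgW' w hw)]
    rw [← neg_one_smul K u, ap_smul, neg_one_smul])))
  have hy := ((mem_omega_iff hB hn hex y).1 (hg y hysp hcomm)).2 h2
  rw [hy3 hev, sqc_eq_one] at hy
  rw [Finset.prod_map] at hy
  obtain ⟨t, -, ht⟩ := disc_basis (B := QuadraticMap.polarBilin Q) W c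
  obtain ⟨k, hk⟩ := hev
  have h22 : IsSquare ((2 : K) ^ finrank K W) := by
    rw [hk, pow_add]; exact IsSquare.mul_self _
  rw [ht, hcdet]
  exact (IsSquare.mul_self t).mul (h22.mul hy)

/-- A stable non-degenerate subspace has a stable complement. -/
theorem exists_compl (hB : Nondeg Q) {g : Grp Q} {S : Submodule K (ι → K)} (hS : Nd (QuadraticMap.polarBilin Q) S)
    (hgS : ∀ x ∈ S, ap g x ∈ S) :
    ∃ W, IsCompl S W ∧ (∀ s ∈ S, ∀ w ∈ W, QuadraticMap.polar ⇑Q s w = 0) ∧ Nd (QuadraticMap.polarBilin Q) W ∧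
      ∀ x ∈ W, ap g x ∈ W := by
  have hI := OrthClassBound.isom_equiv (fun v hv => hB v hv) g
  have hap : ∀ x, OrthClassBound.equiv g x = ap g x := fun x => OrthClassBound.equiv_apply g x
  let W : Submodule K (ι → K) :=
    { carrier := {x | ∀ s ∈ S, QuadraticMap.polarBilin Q s x = 0}
      zero_mem' := fun s _ => map_zero _
      add_mem' := fun hx hy s hs => by rw [map_add, hx s hs, hy s hs, add_zero]
      smul_mem' := fun a x hx s hs => by rw [map_smul, hx s hs, smul_zero] }
  have hsup : ∀ x, ∃ s ∈ S, x - s ∈ W := fun x => by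
    obtain ⟨s, hs, hse⟩ := exists_rep hI hS ((QuadraticMap.polarBilin Q).flip x)
    exact ⟨s, hs, fun t ht => by rw [map_sub, hse t ht]; exact sub_self _⟩
  have hc : IsCompl S W := by
    refine ⟨Submodule.disjoint_def.mpr fun x hx hxW => hS x hx fun s hs => hI.symm_zero (hxW s hs),
      codisjoint_iff.mpr (eq_top_iff.mpr fun x _ => ?_)⟩
    obtain ⟨s, hs, hw⟩ := hsup x
    simpa using Submodule.add_mem_sup hs hw
  refine ⟨W, hc, fun s hs w hw => hw s hs, fun x hx h => hI.nondeg x fun y => ?_, fun x hx s hs => ?_⟩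
  · obtain ⟨s, hs, hw⟩ := hsup y
    have : QuadraticMap.polarBilin Q x s = 0 := hI.symm_zero (hx s hs)
    have h' := h _ hw
    rw [map_sub, this, sub_zero] at h'
    exact h'
  · rw [← hap, hI.apply_right]
    exact hx _ (stable_symm (g := OrthClassBound.equiv g) (fun y hy => by rw [hap]; exact hgS y hy) s hs)

variable (hB : Nondeg Q) (h2 : (2 : K) ≠ 0) (hodd : Odd (Module.finrank K (ι → K)))
  (hn : 2 ≤ Module.finrank K (ι → K)) {g : Grp Q} (hg : Good g)
include hB h2 hodd hn hg

/-- Summands of odd dimension have the discriminant class of the space. -/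
theorem disc_sgn {S : Submodule K (ι → K)} {c : K} {e : ℕ} {s : Bool}
    (hk : HasKey (OrthClassBound.equiv g) (QuadraticMap.polarBilin Q) (1 : K) S (.sgn c e s)) :
    Odd e ∧ IsSquare (disc (QuadraticMap.polarBilin Q) S *
      (LinearMap.toMatrix₂ (Pi.basisFun K ι) (Pi.basisFun K ι) (QuadraticMap.polarBilin Q)).det) := by
  obtain ⟨hst, hnd, hdim⟩ := hasKey_facts (OrthClassBound.isom_equiv (fun v hv => hB v hv) g) hk
  have he : Odd e := by
    have hpar := hk.2.2.1
    rcases Nat.even_or_odd e with hev | hod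
    · rw [hev.neg_one_pow, mul_one] at hpar
      exact absurd (show (2 : K) = 0 by linear_combination hpar) h2
    · exact hod
  have hgS : ∀ x ∈ S, ap g x ∈ S := fun x hx => by
    have := hst x hx
    rwa [OrthClassBound.equiv_apply] at this
  obtain ⟨W, hc, ho, hW, hgW⟩ := exists_compl hB hnd hgS
  have hsum := Submodule.finrank_add_eq_of_isCompl hc
  have hev : Even (finrank K W) := by
    obtain ⟨a, ha⟩ := hodd
    obtain ⟨b, hb⟩ := he
    rw [hdim] at hsum
    simp only [Key.dim] at hsum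
    exact ⟨a - b, by omega⟩
  obtain ⟨r, hr⟩ := isSquare_disc_of_good hB h2 hodd hn hg hc.symm
    (fun w hw s hs => by rw [QuadraticMap.polar_comm]; exact ho s hs w hw) hW hnd hgW hgS hev
  obtain ⟨t, -, ht⟩ := disc_compl (B := QuadraticMap.polarBilin Q) hc ho
    (fun s hs w hw => by show QuadraticMap.polar ⇑Q w s = 0; rw [QuadraticMap.polar_comm]; exact ho s hs w hw)
    (Pi.basisFun K ι)
  exact ⟨he, ⟨disc (QuadraticMap.polarBilin Q) S * t * r, by rw [ht, hr]; ring⟩⟩

/-- Generic summands of size one have square values. -/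
theorem gen_one {S : Submodule K (ι → K)} {p : K[X]}
    (hk : HasKey (OrthClassBound.equiv g) (QuadraticMap.polarBilin Q) (1 : K) S (.gen p 1)) :
    IsSquare (p.eval 1 * p.eval (-1)) := by
  set G := OrthClassBound.equiv g
  set B := QuadraticMap.polarBilin Q
  have hI : Isom B G (1 : K) := OrthClassBound.isom_equiv (fun v hv => hB v hv) g
  obtain ⟨hst, hnd, hdim⟩ := hasKey_facts hI hk
  obtain ⟨hp, -, hR, v, hv, hndv, hS⟩ := hk
  have hpm := hp.recip.1
  have hev' : ∀ c : K, c * c = 1 → p.eval c ≠ 0 := fun c hc h0 =>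
    (irreducible_X_sub_C c).coprime_iff_not_dvd.mp (hp.isCoprime hc) (dvd_iff_isRoot.mpr h0)
  have hp1 := hev' 1 (one_mul 1)
  have hpn := hev' (-1) (by norm_num)
  obtain ⟨hr, hc0, -, -⟩ := genPart_facts (η := (1 : K)) (k := Key.gen p 1) ⟨hp, le_rfl⟩ 1
  simp only [Key.genPart, if_true] at hr hc0
  have hdeg : Even p.natDegree := by
    by_contra hodd'
    rw [Nat.not_even_iff_odd] at hodd'
    letI : Invertible (-1 : K) := ⟨-1, by simp, by simp⟩
    have h := Polynomial.eval₂_reverse_mul_pow (RingHom.id K) (-1) p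
    rw [show (⅟(-1 : K)) = -1 from rfl, hr.2.2, hc0, C_1, one_mul, hodd'.neg_one_pow, mul_neg_one,
      show eval₂ (RingHom.id K) (-1) p = p.eval (-1) from rfl] at h
    have h4 : (2 : K) * p.eval (-1) = 0 := by linear_combination -h
    exact hpn ((mul_eq_zero.mp h4).resolve_left h2)
  have hgS : ∀ x ∈ S, ap g x ∈ S := fun x hx => by
    have := hst x hx
    rwa [OrthClassBound.equiv_apply] at this
  obtain ⟨W, hc, ho, hW, hgW⟩ := exists_compl hB hnd hgS
  have hdS : IsSquare (disc B S) := isSquare_disc_of_good hB h2 hodd hn hg hc ho hnd hW hgS hgW (by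
    rw [hdim]; simpa [Key.dim] using hdeg)
  subst hS
  -- a basis of the orbit
  have hfd : FiniteDimensional K (AdjoinRoot (p ^ 1)) := hR.1.finite_adjoinRoot
  have hinj : Function.Injective (orb G hR.1 v) := by
    refine (injective_iff_map_eq_zero _).mpr fun r hr0 => ?_
    have hz : tau hR r = 0 := hndv _ fun t => by
      rw [← form_orb hI hR hv hv, hr0, map_zero]
    rw [← tau_tau hR r, hz, map_zero]
  let φ := LinearEquiv.ofInjective (orb G hR.1 v) hinj
  let pb := AdjoinRoot.powerBasis' hR.1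
  let c := pb.basis.map φ
  obtain ⟨t, ht, htd⟩ := disc_basis (B := B) _ c
  set a : AdjoinRoot (p ^ 1) := AdjoinRoot.root (p ^ 1) - xinv (p ^ 1) with ha
  let M : AdjoinRoot (p ^ 1) →ₗ[K] AdjoinRoot (p ^ 1) := Algebra.lmul K (AdjoinRoot (p ^ 1)) a
  let C : LinearMap.BilinForm K (AdjoinRoot (p ^ 1)) := B.compl₁₂ (orb G hR.1 v) (orb G hR.1 v)
  have hC : LinearMap.toMatrix₂ pb.basis pb.basis C = LinearMap.toMatrix₂ c c (LinearMap.BilinForm.restrict B _) := by
    ext i j
    rw [LinearMap.toMatrix₂_apply, LinearMap.toMatrix₂_apply]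
    rfl
  have hCd : (LinearMap.toMatrix₂ pb.basis pb.basis C).det ≠ 0 := by
    rw [hC]
    exact SymmDisc.det_ne_zero _ (fun v hv => Subtype.ext (hnd v v.2 fun y hy => hv ⟨y, hy⟩)) c
  -- the alternating form
  have hnorm : ∀ d : K, Algebra.norm K (AdjoinRoot.root (p ^ 1) - algebraMap K _ d) = p.eval d := fun d => by
    have hgen : pb.gen = AdjoinRoot.root (p ^ 1) := rfl
    rw [Algebra.norm_eq_matrix_det pb.basis, ← hgen, map_sub, AlgHom.commutes]
    have hch := charpoly_leftMulMatrix pb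
    rw [hgen, AdjoinRoot.minpoly_root hR.1.ne_zero, hR.1.leadingCoeff, inv_one, C_1, mul_one] at hch
    rw [← hgen] at hch
    replace hch := hch.trans (pow_one p)
    have hpd : Even pb.dim := by
      show Even (p ^ 1).natDegree
      rwa [pow_one]
    rw [← neg_sub, Matrix.det_neg, Fintype.card_fin, hpd.neg_one_pow, one_mul, Matrix.algebraMap_eq_diagonal]
    refine Eq.trans ?_ (congrArg (eval d) hch)
    rw [Matrix.eval_charpoly]
    simp [Matrix.scalar_apply, Pi.algebraMap_def]
  have hdetM : LinearMap.det M = p.eval 1 * p.eval (-1) := by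
    have hroot : Algebra.norm K (AdjoinRoot.root (p ^ 1)) = 1 := by
      have h0 := hnorm 0
      rw [map_zero, sub_zero, ← coeff_zero_eq_eval_zero, hc0] at h0
      exact h0
    have hx : Algebra.norm K (xinv (p ^ 1)) = 1 := by
      have h := congrArg (Algebra.norm K) (root_mul_xinv hR)
      rwa [map_mul, map_one, hroot, one_mul] at h
    show LinearMap.det (Algebra.lmul K (AdjoinRoot (p ^ 1)) a) = _
    rw [← Algebra.norm_apply]
    have e : a = xinv (p ^ 1) * ((AdjoinRoot.root (p ^ 1) - algebraMap K _ 1) *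
        (AdjoinRoot.root (p ^ 1) - algebraMap K _ (-1))) := by
      rw [map_neg, map_one, ha]
      linear_combination (-(AdjoinRoot.root (p ^ 1))) * (root_mul_xinv hR)
    rw [e, map_mul, map_mul, hx, one_mul, hnorm, hnorm]
  have hCM : ∀ r s, C (M r) s = psi G B hR.1 v v (a * r * tau hR s) := fun r s => form_orb hI hR hv hv _ _
  have halt : LinearMap.BilinForm.IsAlt (C.compl₁₂ M LinearMap.id) := fun r => by
    show C (M r) r = 0
    have h := psi_tau_self hI hR hv (a * r * tau hR r)
    rw [one_mul, map_mul (tau hR), map_mul (tau hR), tau_tau, show tau hR a = -a by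
      rw [ha, map_sub, tau_root, tau_xinv, neg_sub], show -a * tau hR r * r = -(a * r * tau hR r) by ring, map_neg] at h
    rw [hCM]
    exact (mul_eq_zero.mp (show (2 : K) * _ = 0 by linear_combination -h)).resolve_left h2
  have hCMd : (LinearMap.toMatrix₂ pb.basis pb.basis (C.compl₁₂ M LinearMap.id)).det =
      p.eval 1 * p.eval (-1) * (LinearMap.toMatrix₂ pb.basis pb.basis C).det := by
    rw [LinearMap.toMatrix₂_compl₁₂ pb.basis pb.basis pb.basis pb.basis, Matrix.det_mul, Matrix.det_mul,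
      Matrix.det_transpose, LinearMap.det_toMatrix, LinearMap.toMatrix_id, Matrix.det_one, mul_one, hdetM]
  have hne : (LinearMap.toMatrix₂ pb.basis pb.basis (C.compl₁₂ M LinearMap.id)).det ≠ 0 := by
    rw [hCMd]; exact mul_ne_zero (mul_ne_zero hp1 hpn) hCd
  obtain ⟨x, hx⟩ := isSquare_det_alt _ halt ((LinearMap.separatingLeft_iff_det_ne_zero pb.basis).2 hne) pb.basis
  obtain ⟨y, hy⟩ := hdS
  rw [hCMd, hC] at hx
  rw [htd] at hy
  rw [hC] at hCd
  refine ⟨x * t / y, ?_⟩
  have hy0 : y ≠ 0 := fun h => mul_ne_zero (mul_ne_zero ht ht) hCd (by rw [hy, h, mul_zero])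
  field_simp
  linear_combination (t * t) * hx - (p.eval 1 * p.eval (-1)) * hy

omit h2 hodd hn hg in
/-- Summands of one size with different signs have different discriminants. -/
theorem sgn_disc_ne (h2 : (2 : K) ≠ 0) {g' : Grp Q} {S S' : Submodule K (ι → K)} {c : K} {e : ℕ} {s s' : Bool}
    (hss : s ≠ s') (he : Odd e)
    (hk : HasKey (OrthClassBound.equiv g) (QuadraticMap.polarBilin Q) (1 : K) S (.sgn c e s))
    (hk' : HasKey (OrthClassBound.equiv g') (QuadraticMap.polarBilin Q) (1 : K) S' (.sgn c e s')) :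
    ¬ IsSquare (disc (QuadraticMap.polarBilin Q) S * disc (QuadraticMap.polarBilin Q) S') := by
  set B := QuadraticMap.polarBilin Q
  have hI : Isom B (OrthClassBound.equiv g) (1 : K) := OrthClassBound.isom_equiv (fun v hv => hB v hv) g
  have hI' : Isom B (OrthClassBound.equiv g') (1 : K) := OrthClassBound.isom_equiv (fun v hv => hB v hv) g'
  obtain ⟨-, hndS, -⟩ := hasKey_facts hI hk
  obtain ⟨hc, he1, -, v, hv, ha, hs, hS⟩ := hk
  obtain ⟨-, -, -, v', hv', ha', hs', hS'⟩ := hk'
  set G := OrthClassBound.equiv g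
  set G' := OrthClassBound.equiv g'
  have hR := (isRecip_linear hc).pow e
  have hnd := fun a => nondeg_of_socle (e := e) (irreducible_X_sub_C c) (psi G B hR.1 v v) (by rwa [psi_pow_pred _ hv]) a
  have hnd' := fun a => nondeg_of_socle (e := e) (irreducible_X_sub_C c) (psi G' B hR.1 v' v') (by rwa [psi_pow_pred _ hv']) a
  obtain ⟨u, hu, hfix, hr⟩ := exists_fixed_multiplier hI hI' hR hv hv' hnd hnd'
  set a := B (act G ((X - C c) ^ (e - 1)) v) v with hadef
  set a' := B (act G' ((X - C c) ^ (e - 1)) v') v' with ha'def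
  set r0 := a' / a with hr0
  have hr0ne : r0 ≠ 0 := div_ne_zero ha' ha
  have hns : ¬ IsSquare r0 := by
    rintro ⟨t, ht⟩
    refine hss (Bool.eq_iff_iff.mpr ?_)
    rw [hs, hs']
    have ht0 : t ≠ 0 := fun h0 => hr0ne (by rw [ht, h0, mul_zero])
    have hat : a' = t * t * a := by rw [← ht, hr0, div_mul_cancel₀ _ ha]
    rw [hat]
    constructor
    · exact fun hsq => (IsSquare.mul_self t).mul hsq
    · intro hsq
      have : a = (t * t * a) * (t⁻¹ * t⁻¹) := by field_simp
      rw [this]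
      exact hsq.mul (IsSquare.mul_self _)
  have hπ : psi G B hR.1 v v (AdjoinRoot.mk _ ((X - C c) ^ (e - 1)) * (r0⁻¹ • u)) =
      1 * 1 * psi G B hR.1 v v (AdjoinRoot.mk _ ((X - C c) ^ (e - 1))) := by
    rw [mul_smul_comm, map_smul, ← hr, psi_pow_pred _ hv', psi_pow_pred _ hv, smul_eq_mul, ← hadef, ← ha'def, hr0]
    field_simp
  obtain ⟨z, hz, hzu⟩ := exists_sqrt h2 hc he1 (r0⁻¹ • u) (by rw [map_smul, hfix]) (psi G B hR.1 v v)
    (by rwa [psi_pow_pred _ hv]) one_ne_zero hπ
  obtain ⟨hw, hrange, hw4⟩ := exists_norm_generator hI hR hv hz hzu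
  set w := orb G hR.1 v z with hwdef
  have hsc : ∀ r, psi G' B hR.1 v' v' r = r0 * psi G B hR.1 w w r := fun r => by
    rw [hw4, hr, mul_smul_comm, map_smul, smul_eq_mul, ← mul_assoc, mul_inv_cancel₀ hr0ne, one_mul]
  obtain rfl : S = LinearMap.range (orb G hR.1 w) := by rw [hS, hrange]
  subst hS'
  have hfd : FiniteDimensional K (AdjoinRoot ((X - C c) ^ e)) := hR.1.finite_adjoinRoot
  have hinj : Function.Injective (orb G hR.1 w) := by
    refine (injective_iff_map_eq_zero _).mpr fun r hr0' => ?_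
    have hz : tau hR r = 0 := hnd' _ fun t => by
      rw [hsc, ← form_orb hI hR hw hw, hr0', map_zero, mul_zero]
    rw [← tau_tau hR r, hz, map_zero]
  have hinj' : Function.Injective (orb G' hR.1 v') := by
    refine (injective_iff_map_eq_zero _).mpr fun r hr0' => ?_
    have hz : tau hR r = 0 := hnd' _ fun t => by
      rw [← form_orb hI' hR hv' hv', hr0', map_zero]
    rw [← tau_tau hR r, hz, map_zero]
  let pb := AdjoinRoot.powerBasis' hR.1
  obtain ⟨t, ht, htd⟩ := disc_basis (B := B) _ (pb.basis.map (LinearEquiv.ofInjective _ hinj))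
  obtain ⟨t', ht', htd'⟩ := disc_basis (B := B) (LinearMap.range (orb G' ((monic_X_sub_C c).pow e) v'))
    (pb.basis.map (LinearEquiv.ofInjective (orb G' hR.1 v') hinj'))
  have hmat : LinearMap.toMatrix₂ (pb.basis.map (LinearEquiv.ofInjective (orb G' hR.1 v') hinj'))
      (pb.basis.map (LinearEquiv.ofInjective (orb G' hR.1 v') hinj')) (LinearMap.BilinForm.restrict B _) =
      r0 • LinearMap.toMatrix₂ (pb.basis.map (LinearEquiv.ofInjective _ hinj))
        (pb.basis.map (LinearEquiv.ofInjective _ hinj)) (LinearMap.BilinForm.restrict B _) := by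
    ext i j
    rw [LinearMap.toMatrix₂_apply, Matrix.smul_apply, LinearMap.toMatrix₂_apply, smul_eq_mul]
    show B (orb G' hR.1 v' (pb.basis i)) (orb G' hR.1 v' (pb.basis j)) =
      r0 * B (orb G hR.1 w (pb.basis i)) (orb G hR.1 w (pb.basis j))
    rw [form_orb hI' hR hv' hv', form_orb hI hR hw hw, hsc]
  have hpd : pb.dim = e := by
    show ((X - C c) ^ e).natDegree = e
    rw [natDegree_pow, natDegree_X_sub_C, mul_one]
  rw [htd, htd', hmat, Matrix.det_smul, Fintype.card_fin, show r0 ^ pb.dim = r0 ^ e by rw [hpd]]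
  set D := (LinearMap.toMatrix₂ (pb.basis.map (LinearEquiv.ofInjective _ hinj))
    (pb.basis.map (LinearEquiv.ofInjective _ hinj)) (LinearMap.BilinForm.restrict B _)).det
  have hD : D ≠ 0 := SymmDisc.det_ne_zero _ (fun v hv => Subtype.ext (hndS v v.2 fun y hy => hv ⟨y, hy⟩)) _
  rintro ⟨x, hx⟩
  obtain ⟨k, rfl⟩ := he
  refine hns ⟨x / (t * t' * D * r0 ^ k), ?_⟩
  field_simp
  rw [pow_succ, mul_comm 2 k, pow_mul] at hx
  linear_combination hx

/-- Signs in good elements are determined by the space. -/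
theorem sgn_unique {g' : Grp Q} (hg' : Good g') {S S' : Submodule K (ι → K)} {c : K} {e : ℕ} {s s' : Bool}
    (hk : HasKey (OrthClassBound.equiv g) (QuadraticMap.polarBilin Q) (1 : K) S (.sgn c e s))
    (hk' : HasKey (OrthClassBound.equiv g') (QuadraticMap.polarBilin Q) (1 : K) S' (.sgn c e s')) : s = s' := by
  by_contra hss
  obtain ⟨he, x, hx⟩ := disc_sgn hB h2 hodd hn hg hk
  obtain ⟨-, y, hy⟩ := disc_sgn hB h2 hodd hn hg' hk'
  refine sgn_disc_ne hB h2 hss he hk hk'
    ⟨x * y / (LinearMap.toMatrix₂ (Pi.basisFun K ι) (Pi.basisFun K ι) (QuadraticMap.polarBilin Q)).det, ?_⟩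
  have hD := SymmDisc.det_ne_zero (QuadraticMap.polarBilin Q) (fun v hv => hB v hv) (Pi.basisFun K ι)
  set D := (LinearMap.toMatrix₂ (Pi.basisFun K ι) (Pi.basisFun K ι) (QuadraticMap.polarBilin Q)).det
  field_simp
  linear_combination (disc (QuadraticMap.polarBilin Q) S' * D) * hx + (x * x) * hy

/-- Two orthogonal summands of one size and positive sign do not occur. -/
theorem no_two_pos {S S' : Submodule K (ι → K)} {c : K} {e : ℕ}
    (hk : HasKey (OrthClassBound.equiv g) (QuadraticMap.polarBilin Q) (1 : K) S (.sgn c e true))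
    (hk' : HasKey (OrthClassBound.equiv g) (QuadraticMap.polarBilin Q) (1 : K) S' (.sgn c e true))
    (ho : ∀ s ∈ S, ∀ w ∈ S', QuadraticMap.polar ⇑Q s w = 0) : False := by
  have hsgn := hk
  set B := QuadraticMap.polarBilin Q
  set G := OrthClassBound.equiv g
  have hI : Isom B G (1 : K) := OrthClassBound.isom_equiv (fun v hv => hB v hv) g
  obtain ⟨hc, he, hpar, v, hv, ha, hs, hS⟩ := hk
  obtain ⟨-, -, -, w, hw, ha', hs', hS'⟩ := hk'
  set hR := (isRecip_linear hc).pow e
  have hnd := fun a => nondeg_of_socle (e := e) (irreducible_X_sub_C c) (psi G B hR.1 v v) (by rwa [psi_pow_pred _ hv]) a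
  have hnd' := fun a => nondeg_of_socle (e := e) (irreducible_X_sub_C c) (psi G B hR.1 w w) (by rwa [psi_pow_pred _ hw]) a
  obtain ⟨u, hu, hfix, hr⟩ := exists_fixed_multiplier hI hI hR hw hv hnd' hnd
  obtain ⟨t, ht, hta⟩ := square_ratio ha' ha (hs.symm.trans hs')
  obtain ⟨z, hz, hzu⟩ := exists_sqrt h2 hc he u hfix (psi G B hR.1 w w) (by rwa [psi_pow_pred _ hw]) ht (by
    rw [← hr, psi_pow_pred _ hv, psi_pow_pred _ hw, hta])
  obtain ⟨hw1, hw2, hw3⟩ := exists_norm_generator hI hR hw hz hzu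
  set w₁ := orb G hR.1 w z
  replace hw3 : ∀ r, psi G B hR.1 w₁ w₁ r = psi G B hR.1 v v r := fun r => by rw [hw3, hr]
  have hSv : ∀ r, orb G hR.1 v r ∈ S := fun r => hS ▸ ⟨r, rfl⟩
  have hSw : ∀ r, orb G hR.1 w₁ r ∈ S' := fun r => by
    have hmem : orb G hR.1 w₁ r ∈ LinearMap.range (orb G hR.1 w₁) := ⟨r, rfl⟩
    rw [hw2] at hmem
    rw [hS']
    exact hmem
  have hcross : ∀ r s, B (orb G hR.1 v r) (orb G hR.1 w₁ s) = 0 ∧ B (orb G hR.1 w₁ s) (orb G hR.1 v r) = 0 :=
    fun r s => ⟨ho _ (hSv r) _ (hSw s), hI.symm_zero (ho _ (hSv r) _ (hSw s))⟩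
  obtain ⟨γ, hγ⟩ := FiniteField.exists_nonsquare (F := K) (fun h => by
    have := ringChar.Nat.cast_ringChar (R := K)
    rw [h] at this
    exact h2 (by exact_mod_cast this))
  obtain ⟨x, y, hxy⟩ := FiniteField.exists_root_sum_quadratic (f := (X : K[X]) ^ 2) (g := (X : K[X]) ^ 2 - C γ)
    (degree_X_pow 2) (degree_X_pow_sub_C two_pos γ)
    (Nat.odd_iff.mp (Nat.odd_iff.mpr (FiniteField.odd_card_of_char_ne_two (fun h => h2 (by
      have := ringChar.Nat.cast_ringChar (R := K); rwa [h, Nat.cast_ofNat] at this)))))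
  simp only [eval_pow, eval_X, eval_sub, eval_C] at hxy
  set v₁ := x • v + y • w₁ with hv₁
  have hk1 : act G ((X - C c) ^ e) v₁ = 0 := by simp [hv₁, map_add, map_smul, hv, hw1]
  have horb : ∀ r, orb G hR.1 v₁ r = x • orb G hR.1 v r + y • orb G hR.1 w₁ r := fun r => by
    rw [hv₁, orb_add_vec hR.1 (by rw [map_smul, hv, smul_zero]) (by rw [map_smul, hw1, smul_zero]), orb_smul_vec hR.1 hv,
      orb_smul_vec hR.1 hw1]
  have hval : B (act G ((X - C c) ^ (e - 1)) v₁) v₁ = γ * B (act G ((X - C c) ^ (e - 1)) v) v := by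
    rw [← orb_mk hR.1 hk1]
    conv_lhs => arg 2; rw [← orb_one hR.1 hk1]
    simp only [horb, map_add, map_smul, LinearMap.add_apply, LinearMap.smul_apply, (hcross _ _).1, (hcross _ _).2,
      form_orb hI hR hv hv, form_orb hI hR hw1 hw1, hw3, smul_eq_mul, map_one, mul_one, psi_pow_pred _ hv]
    linear_combination (B (act G ((X - C c) ^ (e - 1)) v) v) * hxy
  have hγ0 : γ ≠ 0 := fun h => hγ (h ▸ IsSquare.zero)
  have hfalse : HasKey G B (1 : K) (LinearMap.range (orb G hR.1 v₁)) (.sgn c e false) := by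
    refine ⟨hc, he, hpar, v₁, hk1, by rw [hval]; exact mul_ne_zero hγ0 ha, ?_, rfl⟩
    rw [hval]
    simp only [Bool.false_eq_true, false_iff]
    rintro ⟨r, hr'⟩
    obtain ⟨a, ha2⟩ := hs.mp rfl
    refine hγ ⟨r / a, ?_⟩
    have ha0 : a ≠ 0 := fun h => ha (by rw [ha2, h, mul_zero])
    rw [ha2] at hr'
    field_simp
    linear_combination hr'
  exact Bool.false_ne_true (sgn_unique hB h2 hodd hn hg hg hfalse hsgn)

end CfsgLib.Classical.OmegaOddClassBound
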