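import Cfsg.Agent.Lib.Classical.OrthClassBound.Count
import Cfsg.Agent.Lib.Classical.OrthClassBound.Lower

/-!
Counting codes in odd dimension.
-/

set_option autoImplicit false
set_option linter.style.haveILetI false
set_option linter.unusedSectionVars false

namespace CfsgLib.Classical.OmegaOddClassBound

open Polynomial Finset CfsgLib.Classical.OrthClassBound

open scoped _root_.Classical

variable {K : Type*} [Field K] [Fintype K] {m : ℕ}

/-- The codes of total weight `2n + 1`, `n = m + 1`. -/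
def IsCodeOdd (m : ℕ) (c : Raw K (m + 1)) : Prop :=
  (∀ e, ∃ D, SympClassCount.IsPal D (c.1 e)) ∧
    ∑ e, (e.1 + 1) * (c.1 e).natDegree + wsum c.2 = 2 * (m + 1) + 1

/-- The number of summands of the shape series. -/
def weights (m : ℕ) (Bs : Finset (Fin (m + 1 + 1) × Fin 2 → Bool × Bool)) (x r : ℚ) (c : ℕ → ℚ) : ℚ :=
  ∑ s ∈ ((univ : Finset (Fin (2 * (m + 1) + 1) → Fin (m + 2))) ×ˢ (Bs.filter fun b => Odd (wsum b))).filter
      (fun s => ∑ e, (e.1 + 2) * (s.1 e).1 + wsum s.2 / 2 ≤ m + 1),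
    c (m + 1 - (∑ e, (e.1 + 2) * (s.1 e).1 + wsum s.2 / 2)) *
      ((∏ e, x ^ ((e.1 + 1) * (s.1 e).1)) * r ^ (wsum s.2 - 1))

theorem card_codes_odd (m : ℕ) (Bset : Finset (Fin (m + 1 + 1) × Fin 2 → Bool × Bool)) {x r : ℚ}
    (hx : (1 / (Fintype.card K : ℚ)) ≤ x) (hr : (1 / (Fintype.card K : ℚ)) ≤ r ^ 2) (P : K[X] → Prop) (c : ℕ → ℚ)
    (hc : ∀ D, (Nat.card {f : K[X] // SympClassCount.IsPal D f ∧ P f} : ℚ) ≤ c D * (Fintype.card K : ℚ) ^ D) :
    Finite {c : Raw K (m + 1) // IsCodeOdd m c ∧ c.2 ∈ Bset ∧ P (c.1 0)} ∧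
      (Nat.card {c : Raw K (m + 1) // IsCodeOdd m c ∧ c.2 ∈ Bset ∧ P (c.1 0)} : ℚ) ≤
        (Fintype.card K : ℚ) ^ (m + 1) * weights m Bset x r c := by
  set q := Fintype.card K with hq
  let Bs := Bset.filter (fun b => Odd (wsum b))
  let Sh := ((univ : Finset (Fin (2 * (m + 1) + 1) → Fin (m + 2))) ×ˢ Bs).filter
      (fun s => ∑ e, (e.1 + 2) * (s.1 e).1 + wsum s.2 / 2 ≤ m + 1)
  let rest : (Fin (2 * (m + 1) + 1) → Fin (m + 2)) × (Fin (m + 1 + 1) × Fin 2 → Bool × Bool) → ℕ :=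
    fun s => ∑ e, (e.1 + 2) * (s.1 e).1 + wsum s.2 / 2
  let T := (s : Sh) × ({f : K[X] // SympClassCount.IsPal (m + 1 - rest s.1) f ∧ P f} ×
    (∀ e, {f : K[X] // SympClassCount.IsPal (s.1.1 e).1 f}))
  have hpal : ∀ d, Finite {f : K[X] // SympClassCount.IsPal d f} := finite_pal
  have hpal' : ∀ d, Finite {f : K[X] // SympClassCount.IsPal d f ∧ P f} := fun d =>
    Finite.of_injective (fun f => (⟨f.1, f.2.1⟩ : {f : K[X] // SympClassCount.IsPal d f}))
      fun a b h => by simpa [Subtype.ext_iff] using h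
  have hT : Finite T := inferInstance
  choose D hD using fun (c : {c : Raw K (m + 1) // IsCodeOdd m c ∧ c.2 ∈ Bset ∧ P (c.1 0)}) => c.2.1.1
  have hw : ∀ c, 2 * ∑ e, (e.1 + 1) * D c e + wsum c.1.2 = 2 * (m + 1) + 1 := fun c => by
    have h := c.2.1.2
    rw [sum_congr rfl (g := fun e : Fin _ => 2 * ((e.1 + 1) * D c e)) fun e _ => by rw [(hD c e).2.1]; ring,
      ← mul_sum] at h
    exact h
  have hDlt : ∀ c e, D c e < m + 2 := fun c e => by
    have h := single_le_sum (f := fun e : Fin (2 * (m + 1) + 1 + 1) => (e.1 + 1) * D c e) (fun _ _ => Nat.zero_le _)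
      (mem_univ e)
    have h' : D c e ≤ (e.1 + 1) * D c e := Nat.le_mul_of_pos_left _ (Nat.succ_pos _)
    have := hw c
    omega
  let d : {c : Raw K (m + 1) // IsCodeOdd m c ∧ c.2 ∈ Bset ∧ P (c.1 0)} → Fin (2 * (m + 1) + 1) → Fin (m + 2) :=
    fun c e => ⟨D c e.succ, hDlt c _⟩
  have hrest : ∀ c, D c 0 + rest (d c, c.1.2) = m + 1 := fun c => by
    have h := hw c
    rw [Fin.sum_univ_succ] at h
    simp only [Fin.val_zero, zero_add, one_mul, Fin.val_succ, add_assoc, Nat.reduceAdd] at h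
    simp only [rest, d]
    omega
  have hmem : ∀ c, (d c, c.1.2) ∈ Sh := fun c => by
    simp only [Sh, Bs, mem_filter, mem_product, mem_univ, true_and]
    refine ⟨⟨c.2.2.1, ?_⟩, ?_⟩
    · have := hw c
      rw [Nat.odd_iff]
      omega
    · have := hrest c
      simp only [rest] at this
      omega
  let f : {c : Raw K (m + 1) // IsCodeOdd m c ∧ c.2 ∈ Bset ∧ P (c.1 0)} → T := fun c =>
    ⟨⟨_, hmem c⟩, ⟨c.1.1 0, by
      have := hrest c
      rw [show m + 1 - rest (d c, c.1.2) = D c 0 by omega]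
      exact ⟨hD c 0, c.2.2.2⟩⟩, fun e => ⟨c.1.1 e.succ, hD c e.succ⟩⟩
  have hf : Function.Injective f := fun c c' e => by
    refine Subtype.ext (Prod.ext (funext fun i => ?_) (congrArg (fun z : T => z.1.1.2) e))
    refine Fin.cases ?_ (fun j => ?_) i
    · exact congrArg (fun z : T => z.2.1.1) e
    · exact congrArg (fun z : T => (z.2.2 j).1) e
  refine ⟨Finite.of_injective f hf, ?_⟩
  refine le_trans (Nat.cast_le.mpr (Nat.card_le_card_of_injective f hf)) ?_
  rw [Nat.card_sigma, Nat.cast_sum, weights, mul_sum, Finset.sum_coe_sort Sh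
    (fun s => ((Nat.card ({f : K[X] // SympClassCount.IsPal (m + 1 - rest s) f ∧ P f} ×
      (∀ e, {f : K[X] // SympClassCount.IsPal (s.1 e).1 f})) : ℕ) : ℚ))]
  refine sum_le_sum fun s hs => ?_
  rw [Nat.card_prod, Nat.card_pi, prod_congr rfl fun e _ => SympClassCount.card_pal rfl, prod_pow_eq_pow_sum,
    Nat.cast_mul, Nat.cast_pow]
  simp only [Sh, Bs, mem_filter, mem_product, mem_univ, true_and] at hs
  have hc0 : 0 ≤ c (m + 1 - rest s) := by
    have h := (Nat.cast_nonneg _).trans (hc (m + 1 - rest s))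
    have : (0 : ℚ) < (q : ℚ) ^ (m + 1 - rest s) := pow_pos (Nat.cast_pos.mpr Fintype.card_pos) _
    exact (mul_nonneg_iff_of_pos_right this).mp h
  refine (mul_le_mul_of_nonneg_right (hc _) (by positivity)).trans ?_
  set Z := ∑ e : Fin (2 * (m + 1) + 1), (e.1 + 1) * (s.1 e).1 with hZ
  set h := wsum s.2 / 2 with hh
  have hT2 : wsum s.2 - 1 = 2 * h := by
    obtain ⟨k, hk⟩ := hs.1.2
    omega
  have hr' : rest s = Z + h + ∑ e, (s.1 e).1 := by
    simp only [rest, Z, h, add_mul, one_mul, sum_add_distrib, ← mul_sum]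
    ring_nf
  have hpow : (q : ℚ) ^ (m + 1 - rest s) * (q : ℚ) ^ (∑ e, (s.1 e).1) = (q : ℚ) ^ (m + 1) * (1 / (q : ℚ)) ^ (Z + h) := by
    have e : m + 1 = (m + 1 - rest s + ∑ e, (s.1 e).1) + (Z + h) := by
      have := hs.2
      simp only [rest] at hr' ⊢
      omega
    have hq0 : (q : ℚ) ≠ 0 := Nat.cast_ne_zero.mpr Fintype.card_ne_zero
    rw [← pow_add]
    conv_rhs => rw [e, pow_add, mul_assoc, ← mul_pow, mul_one_div_cancel hq0, one_pow, mul_one]
  rw [show ((q : ℚ) ^ (m + 1) * (c (m + 1 - rest s) * ((∏ e, x ^ ((e.1 + 1) * (s.1 e).1)) * r ^ (wsum s.2 - 1)))) =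
    c (m + 1 - rest s) * ((q : ℚ) ^ (m + 1) * ((∏ e, x ^ ((e.1 + 1) * (s.1 e).1)) * r ^ (wsum s.2 - 1))) by ring,
    mul_assoc, hpow, prod_pow_eq_pow_sum, hT2, pow_mul r, pow_add (1 / (q : ℚ))]
  refine mul_le_mul_of_nonneg_left (mul_le_mul_of_nonneg_left ?_ (by positivity)) hc0
  exact mul_le_mul (pow_le_pow_left₀ (by positivity) hx Z) (pow_le_pow_left₀ (by positivity) hr h) (by positivity)
    (pow_nonneg (le_trans (by positivity) hx) _)

theorem geom_minus {y c : ℚ} (hy0 : 0 ≤ y) (hc : 1 + c * y ≤ c) :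
    ∀ (N : ℕ) (a : ℚ), 0 ≤ a → a ≤ 1 → y ≤ 1 → 1 - c * a ≤ ∏ i ∈ range N, (1 - a * y ^ i) := by
  intro N
  induction N with
  | zero =>
    intro a ha _ hy1
    rw [range_zero, prod_empty]
    have : 0 ≤ c := by nlinarith
    nlinarith [mul_nonneg this ha]
  | succ N ih =>
    intro a ha ha1 hy1
    rw [prod_range_succ', prod_congr rfl (g := fun i => 1 - a * y * y ^ i) fun i _ => by ring, pow_zero, mul_one]
    refine le_trans ?_ (mul_le_mul_of_nonneg_right
      (ih _ (mul_nonneg ha hy0) (mul_le_one₀ ha1 hy0 hy1) hy1) (by linarith))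
    have hk : a * (1 + c * y) ≤ a * c := mul_le_mul_of_nonneg_left hc ha
    rcases le_or_gt 0 c with hc0 | hc0
    · nlinarith [mul_nonneg (mul_nonneg (mul_nonneg hc0 hy0) ha) ha]
    · nlinarith

theorem odd_prod_ge {r c : ℚ} (h0 : 0 ≤ r) (h1 : r ≤ 1) (hc : 1 + c * r ^ 2 ≤ c) (N : ℕ) (ht : c * r ^ 13 ≤ 1) :
    (∏ i ∈ range 6, (1 - r ^ (2 * i + 1))) * (1 - c * r ^ 13) ≤ ∏ i ∈ range N, (1 - r ^ (2 * i + 1)) := by
  have hp : ∀ i : ℕ, 0 ≤ 1 - r ^ (2 * i + 1) ∧ 1 - r ^ (2 * i + 1) ≤ 1 := fun i =>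
    ⟨sub_nonneg.mpr (pow_le_one₀ h0 h1), sub_le_self _ (by positivity)⟩
  calc _ ≤ ∏ i ∈ range (6 + N), (1 - r ^ (2 * i + 1)) := by
        rw [prod_range_add]
        refine mul_le_mul_of_nonneg_left ?_ (prod_nonneg fun i _ => (hp i).1)
        refine le_trans (geom_minus (y := r ^ 2) (by positivity) hc N (r ^ 13) (by positivity) (pow_le_one₀ h0 h1)
          (pow_le_one₀ h0 h1)) (le_of_eq (prod_congr rfl fun i _ => ?_))
        rw [← pow_mul, ← pow_add]
        congr 2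
        omega
    _ ≤ _ := by
        rw [add_comm 6 N, prod_range_add]
        exact mul_le_of_le_one_right (prod_nonneg fun i _ => (hp i).1)
          (prod_le_one (fun i _ => (hp _).1) fun i _ => (hp _).2)

/-- The size series at `x`. -/
theorem minus_le {x c : ℚ} (h0 : 0 ≤ x) (h1 : x < 1) (hc : 1 ≤ c * (1 - x)) (ht : c * x ^ 7 < 1) (N : ℕ) :
    ∏ i ∈ range N, (1 / (1 - x ^ (i + 1))) ≤ (∏ i ∈ range 6, (1 / (1 - x ^ (i + 1)))) * (1 / (1 - c * x ^ 7)) := by
  have hlt : ∀ i : ℕ, x ^ (i + 1) < 1 := fun i => pow_lt_one₀ h0 h1 (by omega)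
  calc ∏ i ∈ range N, (1 / (1 - x ^ (i + 1))) ≤ ∏ i ∈ range (6 + N), (1 / (1 - x ^ (i + 1))) := by
        refine prod_le_prod_of_subset_of_one_le (range_subset_range.mpr (by omega))
          (fun i _ => div_nonneg zero_le_one (by linarith [hlt i])) fun i _ _ => ?_
        rw [le_div_iff₀ (by linarith [hlt i])]
        have : (0 : ℚ) ≤ x ^ (i + 1) := by positivity
        linarith
    _ ≤ _ := by
        rw [prod_range_add]
        refine mul_le_mul_of_nonneg_left ?_ (prod_nonneg fun i _ => div_nonneg zero_le_one (by linarith [hlt i]))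
        refine le_trans (le_of_eq (prod_congr rfl fun i _ => ?_))
          (SpClassBound.prod_tail_le h0 h1 hc N 7 (by norm_num) ht).2
        rw [show 6 + i + 1 = 7 + i by omega]

theorem sum_pi (t : Fin (m + 1 + 1) × Fin 2 → Finset (Bool × Bool)) (r : ℚ) (g : ℕ → ℚ)
    (hg : ∀ p, ∑ x ∈ t p, r ^ (sizeAt p * nb x) = g (sizeAt p)) :
    ∑ b ∈ Fintype.piFinset t, r ^ wsum b = (∏ i ∈ range (m + 1 + 1), g (2 * i + 1)) ^ 2 := by
  simp only [wsum, ← prod_pow_eq_pow_sum]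
  rw [← prod_univ_sum t (fun p x => r ^ (sizeAt p * nb x)), prod_congr rfl fun p _ => hg p, prod_pos_eq]

theorem weights_one (Bs : Finset (Fin (m + 1 + 1) × Fin 2 → Bool × Bool)) {x r c : ℚ} (h0 : 0 ≤ x) (h1 : x < 1)
    (hc : 1 ≤ c * (1 - x)) (ht : c * x ^ 7 < 1) (hr : 0 < r) :
    ∑ s ∈ (univ : Finset (Fin (2 * (m + 1) + 1) → Fin (m + 2))) ×ˢ (Bs.filter fun b => Odd (wsum b)),
        (∏ e, x ^ ((e.1 + 1) * (s.1 e).1)) * r ^ (wsum s.2 - 1) ≤
      ((∏ i ∈ range 6, (1 / (1 - x ^ (i + 1)))) * (1 / (1 - c * x ^ 7))) *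
        (((∑ b ∈ Bs, r ^ wsum b) - ∑ b ∈ Bs, (-r) ^ wsum b) / (2 * r)) := by
  rw [sum_product]
  dsimp only
  rw [← sum_mul_sum]
  have hodd : ∑ b ∈ Bs.filter (fun b => Odd (wsum b)), r ^ (wsum b - 1) =
      ((∑ b ∈ Bs, r ^ wsum b) - ∑ b ∈ Bs, (-r) ^ wsum b) / (2 * r) := by
    rw [← sum_sub_distrib, sum_div, sum_filter]
    refine sum_congr rfl fun b _ => ?_
    split_ifs with he
    · rw [he.neg_pow, eq_div_iff (by positivity)]
      obtain ⟨k, hk⟩ := he
      rw [hk, show 2 * k + 1 - 1 = 2 * k by omega, pow_succ]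
      ring
    · rw [(Nat.not_odd_iff_even.mp he).neg_pow]; simp
  rw [hodd]
  refine mul_le_mul_of_nonneg_right ?_ (hodd ▸ sum_nonneg fun b _ => pow_nonneg hr.le _)
  rw [← Fintype.prod_sum (fun (e : Fin (2 * (m + 1) + 1)) (d : Fin (m + 2)) => x ^ ((e.1 + 1) * d.1))]
  have h2 : ∀ e : Fin (2 * (m + 1) + 1), ∑ d : Fin (m + 2), x ^ ((e.1 + 1) * d.1) ≤ 1 / (1 - x ^ (e.1 + 1)) := fun e => by
    simp only [pow_mul]
    rw [Fin.sum_univ_eq_sum_range (fun d => (x ^ (e.1 + 1)) ^ d)]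
    exact SpClassBound.geom_le (by positivity) (pow_lt_one₀ h0 h1 (by omega)) _
  refine le_trans (prod_le_prod (fun e _ => sum_nonneg fun d _ => by positivity) fun e _ => h2 e) ?_
  rw [Fin.prod_univ_eq_prod_range (fun i => 1 / (1 - x ^ (i + 1)))]
  exact minus_le h0 h1 hc ht _

/-- All the codes. -/
theorem card_all (m : ℕ) {x r c c' : ℚ} (h0 : 0 ≤ x) (h1 : x < 1) (hc : 1 ≤ c * (1 - x)) (ht : c * x ^ 7 < 1)
    (hr : 0 < r) (hr1 : r < 1) (hc' : 1 + c' * r ^ 2 ≤ c') (hc'' : 1 ≤ c' * (1 - r ^ 2)) (ht' : c' * r ^ 13 < 1)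
    (hx : (1 / (Fintype.card K : ℚ)) ≤ x) (hrq : (1 / (Fintype.card K : ℚ)) ≤ r ^ 2) :
    Finite {c : Raw K (m + 1) // IsCodeOdd m c} ∧
    (Nat.card {c : Raw K (m + 1) // IsCodeOdd m c} : ℚ) ≤ (Fintype.card K : ℚ) ^ (m + 1) *
      (((∏ i ∈ range 6, (1 / (1 - x ^ (i + 1)))) * (1 / (1 - c * x ^ 7))) *
        ((((∏ i ∈ range 6, (1 + r ^ (2 * i + 1))) * (1 / (1 - c' * r ^ 13))) ^ 4 -
          ((∏ i ∈ range 6, (1 - r ^ (2 * i + 1))) * (1 - c' * r ^ 13)) ^ 4) / (2 * r))) := by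
  obtain ⟨hfin, hle⟩ := card_codes_odd m univ hx hrq (fun _ => True) (fun _ => 1) fun D => by
    rw [one_mul, Nat.card_congr (Equiv.subtypeEquivRight fun f => and_iff_left trivial), SympClassCount.card_pal rfl,
      Nat.cast_pow]
  let e : {c : Raw K (m + 1) // IsCodeOdd m c} ≃ {c : Raw K (m + 1) // IsCodeOdd m c ∧ c.2 ∈ (univ : Finset _) ∧ True} :=
    Equiv.subtypeEquivRight fun c => by simp
  refine ⟨Finite.of_equiv _ e.symm, ?_⟩
  rw [Nat.card_congr e]
  refine hle.trans (mul_le_mul_of_nonneg_left ?_ (by positivity))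
  rw [weights]
  simp only [one_mul]
  refine le_trans (sum_le_sum_of_subset_of_nonneg (filter_subset _ _) fun s _ _ => by positivity) ?_
  refine (weights_one univ h0 h1 hc ht hr).trans (mul_le_mul_of_nonneg_left ?_ ?_)
  · rw [sum_all, sum_all]
    refine div_le_div_of_nonneg_right (sub_le_sub ?_ ?_) (by linarith)
    · exact pow_le_pow_left₀ (prod_nonneg fun i _ => by positivity) (odd_prod_le hr.le hr1 hc'' ht' _) 4
    · simp only [fun i => show 1 + (-r) ^ (2 * i + 1) = 1 - r ^ (2 * i + 1) by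
        rw [(odd_two_mul_add_one i).neg_pow]; ring]
      refine pow_le_pow_left₀ (mul_nonneg (prod_nonneg fun i _ => sub_nonneg.mpr (pow_le_one₀ hr.le hr1.le))
        (by linarith)) (odd_prod_ge hr.le hr1.le hc' _ ht'.le) 4
  · exact mul_nonneg (prod_nonneg fun i _ => div_nonneg zero_le_one (sub_nonneg.mpr (pow_le_one₀ h0 h1.le)))
      (div_nonneg zero_le_one (by linarith))

/-- Palindromic polynomials over three elements with a square product of the values at `1` and `-1`. -/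
theorem card_square_values (hq : Fintype.card K = 3) (h2 : (2 : K) ≠ 0) (D : ℕ) :
    (Nat.card {f : K[X] // SympClassCount.IsPal D f ∧ (f.eval 1 * f.eval (-1) ≠ 0 ∧ IsSquare (f.eval 1 * f.eval (-1)))} : ℚ) ≤
      (if 2 ≤ D then 2 / 9 else 1) * (Fintype.card K : ℚ) ^ D := by
  have hfin := finite_pal (K := K) D
  split_ifs with hD
  swap
  · rw [one_mul, ← Nat.cast_pow, ← SympClassCount.card_pal (F := K) (n := D) rfl]
    exact Nat.cast_le.mpr (Nat.card_le_card_of_injective (fun f => (⟨f.1, f.2.1⟩ : {f : K[X] // SympClassCount.IsPal D f}))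
      fun a b h => by simpa [Subtype.ext_iff] using h)
  let S := {st : K × K // st.1 * st.2 ≠ 0 ∧ IsSquare (st.1 * st.2)}
  have hS : Nat.card S ≤ 2 := by
    have hnz : ∀ z : {z : K // z ≠ 0}, True := fun _ => trivial
    let g : S → {z : K // z ≠ 0} := fun st => ⟨st.1.1, left_ne_zero_of_mul st.2.1⟩
    have hsq : ∀ z : K, z ≠ 0 → IsSquare z → z = 1 := fun z hz ⟨w, hw⟩ => by
      have h := FiniteField.pow_card_sub_one_eq_one w (fun h => hz (by rw [hw, h, mul_zero]))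
      rw [hq] at h
      rw [hw, ← h]; ring
    have hg : Function.Injective g := fun a b h => by
      have h1 : a.1.1 = b.1.1 := congrArg Subtype.val h
      have ha := hsq _ a.2.1 a.2.2
      have hb := hsq _ b.2.1 b.2.2
      refine Subtype.ext (Prod.ext h1 ?_)
      rw [← h1, ← ha] at hb
      exact (mul_left_cancel₀ (left_ne_zero_of_mul a.2.1) hb).symm
    refine (Nat.card_le_card_of_injective g hg).trans (le_of_eq ?_)
    rw [Nat.card_eq_fintype_card, Fintype.card_subtype_compl, Fintype.card_subtype_eq, hq]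
  have h4 : (4 : K) ≠ 0 := by rw [show (4 : K) = 2 * 2 by norm_num]; exact mul_ne_zero h2 h2
  have h1' : ∀ j : ℕ, ((-1 : K) ^ j) ≠ 0 := fun j => pow_ne_zero _ (neg_ne_zero.mpr one_ne_zero)
  -- move the two values
  let u : K → K[X] := fun a => C (a / 4) * X ^ (D - 1) + C (2 * (a / 4)) * X ^ D + C (a / 4) * X ^ (D + 1)
  let w : K → K[X] := fun b => C (b / (4 * (-1) ^ (D - 1))) * X ^ (D - 1) + C (-2 * (b / (4 * (-1) ^ (D - 1)))) * X ^ D +
    C (b / (4 * (-1) ^ (D - 1))) * X ^ (D + 1)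
  have hu : ∀ a, (u a).eval 1 = a ∧ (u a).eval (-1) = 0 := fun a => by
    obtain ⟨j, rfl⟩ : ∃ j, D = j + 1 := ⟨D - 1, by omega⟩
    constructor
    · simp only [u, eval_add, eval_mul, eval_C, eval_pow, eval_X, one_pow, mul_one]; field_simp; ring
    · simp [u, pow_succ]; ring
  have hw : ∀ b, (w b).eval 1 = 0 ∧ (w b).eval (-1) = b := fun b => by
    obtain ⟨j, rfl⟩ : ∃ j, D = j + 1 := ⟨D - 1, by omega⟩
    have := h1' j
    constructor
    · simp [w]; ring
    · simp only [w, eval_add, eval_mul, eval_C, eval_pow, eval_X, Nat.add_sub_cancel, pow_succ]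
      field_simp; ring
  have hpal : ∀ (f : K[X]) (a b c : K), SympClassCount.IsPal D f →
      SympClassCount.IsPal D (f + (C a * X ^ (D - 1) + C b * X ^ D + C a * X ^ (D + 1)) + C c * 0) := by
    intro f a b c hf
    rw [mul_zero, add_zero]
    set g := f + (C a * X ^ (D - 1) + C b * X ^ D + C a * X ^ (D + 1))
    have hco : ∀ i, g.coeff i = f.coeff i +
        ((if i = D - 1 then a else 0) + (if i = D then b else 0) + (if i = D + 1 then a else 0)) := fun i => by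
      simp only [g, coeff_add, coeff_C_mul_X_pow]
    have htop : g.coeff (2 * D) = 1 := by
      rw [hco, if_neg (by omega), if_neg (by omega), if_neg (by omega), add_zero, add_zero, add_zero, ← hf.2.1]
      exact hf.1
    have hdeg : g.natDegree = 2 * D := by
      refine le_antisymm (natDegree_le_iff_coeff_eq_zero.mpr fun i hi => ?_)
        (le_natDegree_of_ne_zero (by rw [htop]; exact one_ne_zero))
      rw [hco, if_neg (by omega), if_neg (by omega), if_neg (by omega), add_zero, add_zero, add_zero]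
      exact coeff_eq_zero_of_natDegree_lt (by rw [hf.2.1]; omega)
    refine ⟨by rw [Monic, leadingCoeff, hdeg, htop], hdeg, ?_, ?_⟩
    · rw [hco, if_neg (by omega), if_neg (by omega), if_neg (by omega), add_zero, add_zero, add_zero, hf.2.2.1]
    · ext i
      rw [coeff_reverse, hdeg]
      rcases Nat.lt_or_ge (2 * D) i with h | h
      · rw [revAt_eq_self_of_lt h]
      · rw [revAt_le h, hco, hco, hf.coeff_sym h]
        split_ifs <;> first | omega | ring
  have hmove : ∀ (f : K[X]) (s t : K), SympClassCount.IsPal D f →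
      SympClassCount.IsPal D (f + u (s - f.eval 1) + w (t - f.eval (-1))) := fun f s t hf => by
    simpa [u, w] using hpal _ ((t - f.eval (-1)) / (4 * (-1) ^ (D - 1)))
      (-2 * ((t - f.eval (-1)) / (4 * (-1) ^ (D - 1)))) 0
      (by simpa [u] using hpal f ((s - f.eval 1) / 4) (2 * ((s - f.eval 1) / 4)) 0 hf)
  let Φ : {f : K[X] // SympClassCount.IsPal D f ∧ (f.eval 1 * f.eval (-1) ≠ 0 ∧ IsSquare (f.eval 1 * f.eval (-1)))} × (K × K) →
      {f : K[X] // SympClassCount.IsPal D f} × S := fun p =>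
    (⟨_, hmove p.1.1 p.2.1 p.2.2 p.1.2.1⟩, ⟨(p.1.1.eval 1, p.1.1.eval (-1)), p.1.2.2⟩)
  have hΦ : Function.Injective Φ := fun p p' h => by
    obtain ⟨h1, h2⟩ := Prod.mk.inj h
    have e1 : p.1.1.eval 1 = p'.1.1.eval 1 := congrArg (fun z : S => z.1.1) h2
    have e2 : p.1.1.eval (-1) = p'.1.1.eval (-1) := congrArg (fun z : S => z.1.2) h2
    have h1' := congrArg Subtype.val h1
    have s1 := congrArg (eval (1 : K)) h1'
    have s2 := congrArg (eval (-1 : K)) h1'
    simp only [eval_add, hu, hw, add_zero, add_sub_cancel] at s1 s2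
    simp only [e1, e2, s1, s2] at h1'
    exact Prod.ext (Subtype.ext (add_right_cancel (add_right_cancel h1'))) (Prod.ext s1 s2)
  have hP : Finite {f : K[X] // SympClassCount.IsPal D f ∧
      (f.eval 1 * f.eval (-1) ≠ 0 ∧ IsSquare (f.eval 1 * f.eval (-1)))} :=
    Finite.of_injective (fun f => (⟨f.1, f.2.1⟩ : {f : K[X] // SympClassCount.IsPal D f}))
      fun a b h => by simpa [Subtype.ext_iff] using h
  have h := Nat.card_le_card_of_injective Φ hΦ
  rw [Nat.card_prod, Nat.card_prod, Nat.card_prod, SympClassCount.card_pal rfl, Nat.card_eq_fintype_card (α := K), hq] at h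
  rw [hq]
  have h' : Nat.card {f : K[X] // SympClassCount.IsPal D f ∧
      (f.eval 1 * f.eval (-1) ≠ 0 ∧ IsSquare (f.eval 1 * f.eval (-1)))} * (3 * 3) ≤ 3 ^ D * 2 :=
    h.trans (Nat.mul_le_mul_left _ hS)
  have h'' := (Nat.cast_le (α := ℚ)).mpr h'
  push_cast at h'' ⊢
  linarith

/-- The allowed bits of a split class. -/
noncomputable def splitBits (m : ℕ) (sg : Fin (m + 1 + 1) × Fin 2 → Bool) :
    Finset (Fin (m + 1 + 1) × Fin 2 → Bool × Bool) :=
  Fintype.piFinset fun p => {(false, false), (sg p, !sg p)}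

/-- The codes of split classes over three elements. -/
theorem card_split (hq : Fintype.card K = 3) (h2 : (2 : K) ≠ 0) (hm : 1 ≤ m) (sg : Fin (m + 1 + 1) × Fin 2 → Bool) :
    Finite {c : Raw K (m + 1) // IsCodeOdd m c ∧ c.2 ∈ splitBits m sg ∧
        ((c.1 0).eval 1 * (c.1 0).eval (-1) ≠ 0 ∧ IsSquare ((c.1 0).eval 1 * (c.1 0).eval (-1)))} ∧
      (Nat.card {c : Raw K (m + 1) // IsCodeOdd m c ∧ c.2 ∈ splitBits m sg ∧
        ((c.1 0).eval 1 * (c.1 0).eval (-1) ≠ 0 ∧ IsSquare ((c.1 0).eval 1 * (c.1 0).eval (-1)))} : ℚ) ≤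
      (Fintype.card K : ℚ) ^ (m + 1) *
        (minusProd * ((((∏ i ∈ range 6, (1 + rr ^ (2 * i + 1))) * (1 / (1 - 3 / 2 * (1 + 1 / 1000) * rr ^ 13))) ^ 2 -
          ((∏ i ∈ range 6, (1 - rr ^ (2 * i + 1))) * (1 - 3 / 2 * (1 + 1 / 1000) * rr ^ 13)) ^ 2) / (2 * rr)) - 14 / 9) := by
  obtain ⟨hfin, hle⟩ := card_codes_odd m (splitBits m sg) (x := 1 / 3) (r := rr) (by rw [hq]; norm_num)
    (by rw [hq]; norm_num [rr]) (fun f : K[X] => f.eval 1 * f.eval (-1) ≠ 0 ∧ IsSquare (f.eval 1 * f.eval (-1)))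
    (fun D => if 2 ≤ D then 2 / 9 else 1) fun D => card_square_values hq h2 D
  refine ⟨hfin, hle.trans (mul_le_mul_of_nonneg_left ?_ (by positivity))⟩
  have hrr : (0 : ℚ) < rr := by norm_num [rr]
  have hrr1 : rr < 1 := by norm_num [rr]
  set S := (univ : Finset (Fin (2 * (m + 1) + 1) → Fin (m + 2))) ×ˢ ((splitBits m sg).filter fun b => Odd (wsum b))
  set F : (Fin (2 * (m + 1) + 1) → Fin (m + 2)) × (Fin (m + 1 + 1) × Fin 2 → Bool × Bool) → ℚ :=
    fun s => (∏ e, (1 / 3 : ℚ) ^ ((e.1 + 1) * (s.1 e).1)) * rr ^ (wsum s.2 - 1) with hFdef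
  let one : Fin 2 → (Fin (2 * (m + 1) + 1) → Fin (m + 2)) × (Fin (m + 1 + 1) × Fin 2 → Bool × Bool) := fun k =>
    (fun _ => 0, Function.update (fun _ => (false, false)) (0, k) (sg (0, k), !sg (0, k)))
  have hwone : ∀ k, wsum (one k).2 = 1 := fun k => by
    simp only [wsum, one]
    rw [sum_eq_single ((0, k) : Fin (m + 1 + 1) × Fin 2)]
    · rw [Function.update_self]; cases sg (0, k) <;> simp [sizeAt, nb]
    · intro p _ hp; rw [Function.update_of_ne hp]; simp [nb]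
    · simp
  have hone : ∀ k, one k ∈ S := fun k => by
    simp only [S, mem_product, mem_univ, true_and, mem_filter, hwone, odd_one, and_true, splitBits,
      Fintype.mem_piFinset, one]
    intro p
    by_cases hp : p = (0, k)
    · subst hp; simp
    · rw [Function.update_of_ne hp]; simp
  have hinj : Function.Injective one := fun k k' h => by
    by_contra hne
    have := congrFun (congrArg Prod.snd h) (0, k)
    simp only [one, Function.update_self] at this
    rw [Function.update_of_ne (by simp [hne])] at this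
    cases hh : sg (0, k) <;> simp [hh] at this
  have hF0 : ∀ s, 0 ≤ F s := fun s => mul_nonneg (by positivity) (pow_nonneg hrr.le _)
  have key : weights m (splitBits m sg) (1 / 3) rr (fun D => if 2 ≤ D then 2 / 9 else 1) + 14 / 9 ≤ ∑ s ∈ S, F s := by
    rw [weights]
    refine le_trans ?_ (sum_le_sum_of_subset_of_nonneg (filter_subset
      (fun s => ∑ e, (e.1 + 2) * (s.1 e).1 + wsum s.2 / 2 ≤ m + 1) S) fun s _ _ => hF0 s)
    have h14 : (14 / 9 : ℚ) = ∑ s ∈ univ.image one, 7 / 9 * F s := by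
      rw [sum_image fun a _ b _ h => hinj h, sum_congr rfl (g := fun _ => (7 / 9 : ℚ)) fun k _ => by
        have h1 := hwone k
        simp [F, h1, one]]
      simp
      norm_num
    have hsub : univ.image one ⊆ S.filter (fun s => ∑ e, (e.1 + 2) * (s.1 e).1 + wsum s.2 / 2 ≤ m + 1) := fun s hs => by
      obtain ⟨k, -, rfl⟩ := mem_image.mp hs
      refine mem_filter.mpr ⟨hone k, ?_⟩
      have h1 := hwone k
      simp [one] at h1 ⊢
      omega
    rw [h14, ← sum_filter_add_sum_filter_not (S.filter fun s => ∑ e, (e.1 + 2) * (s.1 e).1 + wsum s.2 / 2 ≤ m + 1)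
      (fun s => s ∈ univ.image one), ← sum_filter_add_sum_filter_not
      (S.filter fun s => ∑ e, (e.1 + 2) * (s.1 e).1 + wsum s.2 / 2 ≤ m + 1) (fun s => s ∈ univ.image one) F,
      filter_mem_eq_inter, inter_eq_right.mpr hsub]
    have h1 : ∀ s ∈ univ.image one, (if 2 ≤ m + 1 - (∑ e, (e.1 + 2) * (s.1 e).1 + wsum s.2 / 2) then (2 / 9 : ℚ) else 1) = 2 / 9 := by
      intro s hs
      obtain ⟨k, -, rfl⟩ := mem_image.mp hs
      have h1 := hwone k
      simp [one] at h1 ⊢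
      omega
    rw [sum_congr rfl (g := fun s => 2 / 9 * F s) fun s hs => by rw [h1 s hs], ← mul_sum, ← mul_sum]
    have h2' : ∀ s : (Fin (2 * (m + 1) + 1) → Fin (m + 2)) × (Fin (m + 1 + 1) × Fin 2 → Bool × Bool),
        (if 2 ≤ m + 1 - (∑ e, (e.1 + 2) * (s.1 e).1 + wsum s.2 / 2) then (2 / 9 : ℚ) else 1) * F s ≤ F s := fun s => by
      refine mul_le_of_le_one_left (hF0 s) ?_
      split_ifs <;> norm_num
    linarith [sum_le_sum (s := (S.filter fun s => ∑ e, (e.1 + 2) * (s.1 e).1 + wsum s.2 / 2 ≤ m + 1).filter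
      (fun s => ¬ s ∈ univ.image one)) fun s _ => h2' s]
  have hb := weights_one (splitBits m sg) (x := 1 / 3) (r := rr) (c := 3 / 2) (m := m) (by norm_num) (by norm_num)
    (by norm_num) (by norm_num) hrr
  have hp : ∀ r : ℚ, ∑ b ∈ splitBits m sg, r ^ wsum b = (∏ i ∈ range (m + 1 + 1), (1 + r ^ (2 * i + 1))) ^ 2 := fun r =>
    sum_pi _ r (fun w => 1 + r ^ w) fun p => by cases sg p <;> simp [nb]
  rw [hp, hp] at hb
  have hb' : ((∏ i ∈ range (m + 1 + 1), (1 + rr ^ (2 * i + 1))) ^ 2 -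
      (∏ i ∈ range (m + 1 + 1), (1 + (-rr) ^ (2 * i + 1))) ^ 2) / (2 * rr) ≤
      (((∏ i ∈ range 6, (1 + rr ^ (2 * i + 1))) * (1 / (1 - 3 / 2 * (1 + 1 / 1000) * rr ^ 13))) ^ 2 -
          ((∏ i ∈ range 6, (1 - rr ^ (2 * i + 1))) * (1 - 3 / 2 * (1 + 1 / 1000) * rr ^ 13)) ^ 2) / (2 * rr) := by
    refine div_le_div_of_nonneg_right (sub_le_sub ?_ ?_) (by linarith)
    · exact pow_le_pow_left₀ (prod_nonneg fun i _ => by positivity)
        (odd_prod_le hrr.le hrr1 (by norm_num [rr]) (by norm_num [rr]) _) 2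
    · simp only [fun i => show 1 + (-rr) ^ (2 * i + 1) = 1 - rr ^ (2 * i + 1) by
        rw [(odd_two_mul_add_one i).neg_pow]; ring]
      refine pow_le_pow_left₀ (mul_nonneg (prod_nonneg fun i _ => sub_nonneg.mpr (pow_le_one₀ hrr.le hrr1.le))
        (by norm_num [rr])) (odd_prod_ge hrr.le hrr1.le (by norm_num [rr]) _ (by norm_num [rr])) 2
  have hmp : (0 : ℚ) ≤ minusProd := by norm_num [minusProd, prod_range_succ]
  have hb'' : ∑ s ∈ S, F s ≤ minusProd * (((∏ i ∈ range (m + 1 + 1), (1 + rr ^ (2 * i + 1))) ^ 2 -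
      (∏ i ∈ range (m + 1 + 1), (1 + (-rr) ^ (2 * i + 1))) ^ 2) / (2 * rr)) := hb
  linarith [key, hb'', mul_le_mul_of_nonneg_left hb' hmp]

theorem numeric_five :
    ((∏ i ∈ range 6, (1 / (1 - (1 / 5 : ℚ) ^ (i + 1)))) * (1 / (1 - 5 / 4 * (1 / 5) ^ 7))) *
      ((((∏ i ∈ range 6, (1 + (4473 / 10000 : ℚ) ^ (2 * i + 1))) * (1 / (1 - 2 * (4473 / 10000) ^ 13))) ^ 4 -
        ((∏ i ∈ range 6, (1 - (4473 / 10000 : ℚ) ^ (2 * i + 1))) * (1 - 2 * (4473 / 10000) ^ 13)) ^ 4) /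
          (2 * (4473 / 10000))) ≤ 73 / 5 := by
  norm_num [prod_range_succ]

theorem numeric_three :
    (minusProd * ((((∏ i ∈ range 6, (1 + rr ^ (2 * i + 1))) * (1 / (1 - 3 / 2 * (1 + 1 / 1000) * rr ^ 13))) ^ 4 -
          ((∏ i ∈ range 6, (1 - rr ^ (2 * i + 1))) * (1 - 3 / 2 * (1 + 1 / 1000) * rr ^ 13)) ^ 4) / (2 * rr))) / 8 +
      3 / 4 * (minusProd * ((((∏ i ∈ range 6, (1 + rr ^ (2 * i + 1))) * (1 / (1 - 3 / 2 * (1 + 1 / 1000) * rr ^ 13))) ^ 2 -
          ((∏ i ∈ range 6, (1 - rr ^ (2 * i + 1))) * (1 - 3 / 2 * (1 + 1 / 1000) * rr ^ 13)) ^ 2) / (2 * rr)) - 14 / 9) ≤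
      73 / 10 := by
  norm_num [minusProd, rr, prod_range_succ]

end CfsgLib.Classical.OmegaOddClassBound
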