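import Mathlib.GroupTheory.CommutingProbability
import Mathlib.GroupTheory.GroupAction.Quotient
import Mathlib.GroupTheory.Index
import Mathlib.GroupTheory.IndexNormal

/-!
The classes of a subgroup of index two.
-/

set_option autoImplicit false

namespace CfsgLib.Classical.OmegaOddClassBound

open scoped _root_.Classical

variable {G : Type*} [Group G] [Finite G]

/-- The centraliser of a representative of the class lies in `H`. -/
def Splits (H : Subgroup G) (C : ConjClasses G) : Prop := ∀ x, ConjClasses.mk x = C → ∀ y, Commute x y → y ∈ H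

omit [Finite G] in
theorem splits_iff {H : Subgroup G} [H.Normal] (x : G) :
    Splits H (ConjClasses.mk x) ↔ ∀ y, Commute x y → y ∈ H := by
  refine ⟨fun h => h x rfl, fun h x' hx' y hy => ?_⟩
  obtain ⟨c, hc⟩ := isConj_iff.mp (ConjClasses.mk_eq_mk_iff_isConj.mp hx'.symm)
  subst hc
  have h' := h (c⁻¹ * y * c) (by
    have := congrArg (fun z => c⁻¹ * z * c) hy.eq
    simp only [Commute, SemiconjBy]
    simpa [mul_assoc] using this)
  have := (inferInstance : H.Normal).conj_mem _ h' c
  simpa [mul_assoc] using this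

theorem card_commute_class (P : ConjClasses G → Prop) :
    Nat.card {p : G × G // Commute p.1 p.2 ∧ P (ConjClasses.mk p.1)} =
      Nat.card {C : ConjClasses G // P C} * Nat.card G := by
  classical
  letI := Fintype.ofFinite G
  have hclass : ∀ C : ConjClasses G, Nat.card {p : G × G // Commute p.1 p.2 ∧ ConjClasses.mk p.1 = C} = Nat.card G := by
    intro C
    obtain ⟨x, rfl⟩ := ConjClasses.mk_surjective C
    have horb := MulAction.orbitEquivQuotientStabilizer (ConjAct G) x
    have hcard := (MulAction.stabilizer (ConjAct G) x).index_mul_card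
    rw [Nat.card_congr ConjAct.toConjAct.toEquiv.symm] at hcard
    let e : {p : G × G // Commute p.1 p.2 ∧ ConjClasses.mk p.1 = ConjClasses.mk x} ≃
        (a : {a : G // ConjClasses.mk a = ConjClasses.mk x}) × {y : G // Commute a.1 y} :=
      { toFun := fun p => ⟨⟨p.1.1, p.2.2⟩, ⟨p.1.2, p.2.1⟩⟩
        invFun := fun q => ⟨(q.1.1, q.2.1), q.2.2, q.1.2⟩
        left_inv := fun _ => rfl
        right_inv := fun _ => rfl }
    rw [Nat.card_congr e, Nat.card_sigma]
    have hsame : ∀ a : {a : G // ConjClasses.mk a = ConjClasses.mk x},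
        Nat.card {y : G // Commute a.1 y} = Nat.card (MulAction.stabilizer (ConjAct G) x) := by
      rintro ⟨a, ha⟩
      obtain ⟨c, hc⟩ := isConj_iff.mp (ConjClasses.mk_eq_mk_iff_isConj.mp ha.symm)
      subst hc
      refine Nat.card_congr
        { toFun := fun y => ⟨ConjAct.toConjAct (c⁻¹ * y.1 * c), ?_⟩
          invFun := fun y => ⟨c * ConjAct.ofConjAct y.1 * c⁻¹, ?_⟩
          left_inv := fun y => by simp [mul_assoc]
          right_inv := fun y => by simp [mul_assoc] }
      · rw [MulAction.mem_stabilizer_iff, ConjAct.smul_def, ConjAct.ofConjAct_toConjAct, mul_inv_eq_iff_eq_mul]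
        have := congrArg (fun z => c⁻¹ * z * c) y.2.eq
        simpa [mul_assoc] using this.symm
      · have h := MulAction.mem_stabilizer_iff.mp y.2
        rw [ConjAct.smul_def, mul_inv_eq_iff_eq_mul] at h
        simp only [Commute, SemiconjBy]
        simpa [mul_assoc] using congrArg (fun z => c * z * c⁻¹) h.symm
    rw [Finset.sum_congr rfl fun a _ => hsame a, Finset.sum_const, smul_eq_mul, Finset.card_univ,
      ← Nat.card_eq_fintype_card]
    have hor : Nat.card {a : G // ConjClasses.mk a = ConjClasses.mk x} = (MulAction.stabilizer (ConjAct G) x).index := by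
      rw [Subgroup.index, ← Nat.card_congr horb]
      refine Nat.card_congr (Equiv.subtypeEquivRight fun a => ?_)
      rw [ConjAct.mem_orbit_conjAct, ConjClasses.mk_eq_mk_iff_isConj]
    rw [hor, hcard]
  let e : {p : G × G // Commute p.1 p.2 ∧ P (ConjClasses.mk p.1)} ≃
      (C : {C : ConjClasses G // P C}) × {p : G × G // Commute p.1 p.2 ∧ ConjClasses.mk p.1 = C.1} :=
    { toFun := fun p => ⟨⟨ConjClasses.mk p.1.1, p.2.2⟩, ⟨p.1, p.2.1, rfl⟩⟩
      invFun := fun q => ⟨q.2.1, q.2.2.1, by rw [q.2.2.2]; exact q.1.2⟩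
      left_inv := fun _ => rfl
      right_inv := by
        rintro ⟨⟨C, hC⟩, ⟨p, hp, hpC⟩⟩
        dsimp only at hpC
        subst hpC
        rfl }
  rw [Nat.card_congr e, Nat.card_sigma, Finset.sum_congr rfl fun C _ => hclass C.1, Finset.sum_const, smul_eq_mul,
    Finset.card_univ, ← Nat.card_eq_fintype_card]

/-- Class numbers along a subgroup of index two. -/
theorem index_two_bounds {H : Subgroup G} (hH : H.index = 2) :
    Nat.card (ConjClasses G) ≤ 2 * Nat.card (ConjClasses H) ∧
      Nat.card (ConjClasses H) ≤ 2 * Nat.card (ConjClasses G) ∧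
      2 * Nat.card (ConjClasses H) ≤ Nat.card (ConjClasses G) + 3 * Nat.card {C : ConjClasses G // Splits H C} := by
  classical
  letI := Fintype.ofFinite G
  haveI := Subgroup.normal_of_index_eq_two hH
  have hGH : Nat.card G = 2 * Nat.card H := by rw [← H.index_mul_card, hH]
  let A : Finset (G × G) := Finset.univ.filter fun p => Commute p.1 p.2
  let HH := A.filter fun p => p.1 ∈ H ∧ p.2 ∈ H
  let HO := A.filter fun p => p.1 ∈ H ∧ p.2 ∉ H
  let OH := A.filter fun p => p.1 ∉ H ∧ p.2 ∈ H
  let OO := A.filter fun p => p.1 ∉ H ∧ p.2 ∉ H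
  let SP := A.filter fun p => Splits H (ConjClasses.mk p.1)
  have hA : A.card = Nat.card (ConjClasses G) * Nat.card G := by
    rw [← card_comm_eq_card_conjClasses_mul_card, Nat.card_eq_fintype_card, Fintype.card_subtype]
  have hHH : HH.card = Nat.card (ConjClasses H) * Nat.card H := by
    rw [← card_comm_eq_card_conjClasses_mul_card, ← Nat.card_eq_finsetCard]
    exact Nat.card_congr
      { toFun := fun p => ⟨(⟨p.1.1, (Finset.mem_filter.mp p.2).2.1⟩, ⟨p.1.2, (Finset.mem_filter.mp p.2).2.2⟩),
          Subtype.ext ((Finset.mem_filter.mp (Finset.mem_filter.mp p.2).1).2)⟩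
        invFun := fun p => ⟨((p.1.1 : G), (p.1.2 : G)), Finset.mem_filter.mpr ⟨Finset.mem_filter.mpr
          ⟨Finset.mem_univ _, congrArg Subtype.val p.2⟩, p.1.1.2, p.1.2.2⟩⟩
        left_inv := fun _ => rfl
        right_inv := fun _ => rfl }
  have hSP : SP.card = Nat.card {C : ConjClasses G // Splits H C} * Nat.card G := by
    rw [← card_commute_class, ← Nat.card_eq_finsetCard]
    exact Nat.card_congr (Equiv.subtypeEquivRight fun p => by simp [SP, A])
  have hsplit : A.card = HH.card + HO.card + (OH.card + OO.card) := by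
    rw [← Finset.card_filter_add_card_filter_not (s := A) (fun p => p.1 ∈ H),
      ← Finset.card_filter_add_card_filter_not (s := A.filter fun p => p.1 ∈ H) (fun p => p.2 ∈ H),
      ← Finset.card_filter_add_card_filter_not (s := A.filter fun p => p.1 ∉ H) (fun p => p.2 ∈ H)]
    simp only [Finset.filter_filter, HH, HO, OH, OO]
  have hmul : ∀ a b : G, a * b ∈ H ↔ (a ∈ H ↔ b ∈ H) := fun a b => Subgroup.mul_mem_iff_of_index_two hH
  have hOH : OH.card = HO.card := Finset.card_bij' (fun p _ => (p.2, p.1)) (fun p _ => (p.2, p.1))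
    (fun p hp => by
      simp only [OH, HO, A, Finset.mem_filter, Finset.mem_univ, true_and] at hp ⊢
      exact ⟨hp.1.symm, hp.2.2, hp.2.1⟩)
    (fun p hp => by
      simp only [OH, HO, A, Finset.mem_filter, Finset.mem_univ, true_and] at hp ⊢
      exact ⟨hp.1.symm, hp.2.2, hp.2.1⟩)
    (fun _ _ => rfl) (fun _ _ => rfl)
  have hOO : OO.card = OH.card := Finset.card_bij' (fun p _ => (p.1, p.1 * p.2)) (fun p _ => (p.1, p.1⁻¹ * p.2))
    (fun p hp => by
      simp only [OH, OO, A, Finset.mem_filter, Finset.mem_univ, true_and] at hp ⊢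
      exact ⟨(Commute.refl _).mul_right hp.1, hp.2.1, by rw [hmul]; simp [hp.2.1, hp.2.2]⟩)
    (fun p hp => by
      simp only [OH, OO, A, Finset.mem_filter, Finset.mem_univ, true_and] at hp ⊢
      exact ⟨((Commute.refl _).inv_right).mul_right hp.1, hp.2.1, by rw [hmul, inv_mem_iff]; simp [hp.2.1, hp.2.2]⟩)
    (fun p _ => by simp) (fun p _ => by simp)
  -- translate by a commuting element outside `H`
  have hy : ∀ x : G, (∃ y, Commute x y ∧ y ∉ H) → ∃ y, Commute x y ∧ y ∉ H := fun x h => h
  let y₀ : G → G := fun x => if h : ∃ y, Commute x y ∧ y ∉ H then h.choose else 1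
  have hy₀ : ∀ x, (∃ y, Commute x y ∧ y ∉ H) → Commute x (y₀ x) ∧ y₀ x ∉ H := fun x h => by
    simp only [y₀, dif_pos h]; exact h.choose_spec
  have hHOle : HO.card ≤ HH.card := by
    refine Finset.card_le_card_of_injOn (fun p => (p.1, y₀ p.1 * p.2)) (fun p hp => ?_) fun p hp r hr h => ?_
    · simp only [Finset.mem_coe, HH, HO, A, Finset.mem_filter, Finset.mem_univ, true_and] at hp ⊢
      obtain ⟨h1, h2⟩ := hy₀ p.1 ⟨p.2, hp.1, hp.2.2⟩
      exact ⟨h1.mul_right hp.1, hp.2.1, by rw [hmul]; simp [h2, hp.2.2]⟩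
    · obtain ⟨h1, h2⟩ := Prod.mk.inj h
      refine Prod.ext h1 ?_
      rw [h1] at h2
      exact mul_left_cancel h2
  have hHHle : HH.card ≤ HO.card + SP.card := by
    rw [← Finset.card_filter_add_card_filter_not (s := HH) (fun p => Splits H (ConjClasses.mk p.1)), add_comm]
    refine Nat.add_le_add ?_ (Finset.card_le_card fun p hp => ?_)
    · refine Finset.card_le_card_of_injOn (fun p => (p.1, y₀ p.1 * p.2)) (fun p hp => ?_) fun p hp r hr h => ?_
      · simp only [Finset.mem_coe, HH, HO, A, Finset.mem_filter, Finset.mem_univ, true_and] at hp ⊢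
        have hns : ∃ y, Commute p.1 y ∧ y ∉ H := by
          have := hp.2
          rw [splits_iff] at this
          push Not at this
          exact this
        obtain ⟨h1, h2⟩ := hy₀ p.1 hns
        exact ⟨h1.mul_right hp.1.1, hp.1.2.1, by rw [hmul]; simp [h2, hp.1.2.2]⟩
      · obtain ⟨h1, h2⟩ := Prod.mk.inj h
        refine Prod.ext h1 ?_
        rw [h1] at h2
        exact mul_left_cancel h2
    · simp only [HH, SP, Finset.mem_filter] at hp ⊢
      exact ⟨hp.1.1, hp.2⟩
  rw [hOO, hOH, hHH, hA, hGH] at hsplit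
  rw [hHH] at hHOle hHHle
  rw [hSP, hGH] at hHHle
  have hpos : 0 < Nat.card H := Nat.card_pos
  refine ⟨?_, ?_, ?_⟩
  · refine Nat.le_of_mul_le_mul_right ?_ (Nat.mul_pos (two_pos) hpos)
    calc _ ≤ 4 * (Nat.card (ConjClasses H) * Nat.card H) := by omega
      _ = _ := by ring
  · refine Nat.le_of_mul_le_mul_right ?_ hpos
    calc _ ≤ Nat.card (ConjClasses G) * (2 * Nat.card H) := by omega
      _ = _ := by ring
  · refine Nat.le_of_mul_le_mul_right ?_ (Nat.mul_pos (two_pos) hpos)
    calc 2 * Nat.card (ConjClasses H) * (2 * Nat.card H)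
        = 4 * (Nat.card (ConjClasses H) * Nat.card H) := by ring
      _ ≤ Nat.card (ConjClasses G) * (2 * Nat.card H) +
          3 * (Nat.card {C : ConjClasses G // Splits H C} * (2 * Nat.card H)) := by omega
      _ = _ := by ring

end CfsgLib.Classical.OmegaOddClassBound
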