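import Cfsg.Agent.Lib.Classical.OmegaOddClassBound.IndexTwo
import Cfsg.Agent.Lib.Classical.OmegaOddClassBound.Count
import Cfsg.Agent.Lib.Classical.OmegaOddClassBound.Center

/-!
The classes of the orthogonal groups in odd dimension.
-/

set_option autoImplicit false
set_option linter.style.haveILetI false
set_option linter.unusedSectionVars false

namespace CfsgLib.Classical.OmegaOddClassBound

open Polynomial Module Matrix CfsgLib.Orth CfsgLib.Classical.SpClassBound CfsgLib.Classical.OrthClassBound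

open scoped _root_.Classical

variable {K : Type*} [Field K]

theorem code_inj' (h2 : (2 : K) ≠ 0) (m : ℕ) {l l' : List (Key K)} (hl : ∀ k ∈ l, k.Valid (1 : K))
    (hl' : ∀ k ∈ l', k.Valid (1 : K)) (hn : Norm l) (hn' : Norm l') (hdim : (l.map Key.dim).sum ≤ 2 * (m + 1))
    (hdim' : (l'.map Key.dim).sum ≤ 2 * (m + 1)) (h : OrthClassBound.code m l = OrthClassBound.code m l') : l.Perm l' := by
  refine OrthClassBound.code_injective h2 hl hl' hn hn' (fun e he => ?_) fun e he hpar b => ?_
  · by_cases hle : e ≤ 2 * (m + 1)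
    · have := congrFun (congrArg Prod.fst h) ⟨e - 1, by omega⟩
      simpa [OrthClassBound.code, show e - 1 + 1 = e by omega] using this
    · rw [(code_trivial hl (e := e) (by omega)).1, (code_trivial hl' (e := e) (by omega)).1]
  · by_cases hle : e ≤ 2 * (m + 1)
    · obtain ⟨r, hr⟩ : Odd e := by
        rcases Nat.even_or_odd e with hev | hod
        · rw [hev.neg_one_pow, mul_one] at hpar
          exact absurd (show (2 : K) = 0 by linear_combination hpar) h2
        · exact hod
      have h0 := congrFun (congrArg Prod.snd h) (⟨r, by omega⟩, (0 : Fin 2))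
      have h1 := congrFun (congrArg Prod.snd h) (⟨r, by omega⟩, (1 : Fin 2))
      simp only [OrthClassBound.code, sizeAt, rootAt, ← hr, Prod.mk.injEq, if_true, Fin.one_eq_zero_iff, OfNat.ofNat_ne_one,
        if_false] at h0 h1
      cases b
      · exact ⟨h0.2, h1.2⟩
      · exact ⟨h0.1, h1.1⟩
    · simp [(code_trivial hl (e := e) (by omega)).2, (code_trivial hl' (e := e) (by omega)).2]

theorem code_mem' (h2 : (2 : K) ≠ 0) (m : ℕ) {l : List (Key K)} (hl : ∀ k ∈ l, k.Valid (1 : K)) (hn : Norm l)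
    (hdim : (l.map Key.dim).sum = 2 * (m + 1) + 1) : IsCodeOdd m (OrthClassBound.code (m + 1) l) := by
  refine ⟨fun e => codePoly_pal h2 hl _, ?_⟩
  have h := code_degree h2 hl hn (2 * (m + 1 + 1)) (by omega)
  rw [hdim] at h
  simp only [mul_add, Finset.sum_add_distrib] at h
  have hb : ∑ e ∈ Finset.Icc 1 (2 * (m + 1 + 1)), e * bitWeight l e =
      ∑ i : Fin (m + 1 + 1), (2 * i.1 + 1) * bitWeight l (2 * i.1 + 1) :=
    sum_Icc_odd (f := fun e => e * bitWeight l e) (fun e he => by simp [bitWeight, bit_even h2 hl he]) (m + 1 + 1)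
  have hP : ∑ e : Fin (2 * (m + 1) + 1 + 1), (e.1 + 1) * ((OrthClassBound.code (m + 1) l).1 e).natDegree =
      ∑ e ∈ Finset.Icc 1 (2 * (m + 1 + 1)), e * (codePoly l e).natDegree := by
    rw [show 2 * (m + 1 + 1) = 2 * (m + 1) + 1 + 1 by ring, ← sum_Icc_eq]
    rfl
  have hB : wsum ((OrthClassBound.code (m + 1) l).2) = ∑ i : Fin (m + 1 + 1), (2 * i.1 + 1) * bitWeight l (2 * i.1 + 1) := by
    rw [wsum, Fintype.sum_prod_type]
    refine Finset.sum_congr rfl fun i _ => ?_
    simp [nb, OrthClassBound.code, Fin.sum_univ_two, bitWeight, rootAt, sizeAt, mul_add]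
  rw [hP, hB, ← hb]
  exact h

theorem exists_key_of_mem [Finite K] {V : Type*} [AddCommGroup V] [Module K V] [FiniteDimensional K V] {g : V ≃ₗ[K] V}
    {B : LinearMap.BilinForm K V} {η : K} (hI : Isom B g η) {l : List (Key K)} {W : Submodule K V}
    (h : Decomp g B η W l) {k : Key K} (hk : k ∈ l) : ∃ S, HasKey g B η S k := by
  obtain ⟨S, _, hS, _⟩ := (h.perm hI (List.perm_cons_erase hk)).cons_inv
  exact ⟨S, hS⟩

variable [Fintype K] {ι : Type} [Fintype ι] [DecidableEq ι] {Q : QuadraticForm K (ι → K)}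
variable {m : ℕ} (hB : Nondeg Q) (h2 : (2 : K) ≠ 0) (hι : Fintype.card ι = 2 * (m + 1) + 1)
include hB h2 hι

omit h2 in
theorem dim_facts : Odd (finrank K (ι → K)) ∧ 2 ≤ finrank K (ι → K) := by
  rw [Module.finrank_fintype_fun_eq_card, hι]
  exact ⟨⟨m + 1, rfl⟩, by omega⟩

theorem exists_data_odd (A : Cfsg.isometryGroup K ⇑Q) :
    ∃ l, Norm l ∧ Decomp (equiv A) (QuadraticMap.polarBilin Q) (1 : K) ⊤ l ∧ (∀ k ∈ l, k.Valid (1 : K)) ∧
      (l.map Key.dim).sum = 2 * (m + 1) + 1 := by
  have hI := OrthClassBound.isom_equiv (fun v hv => hB v hv) A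
  obtain ⟨l, hn, hd⟩ := exists_decomp h2 hI _ ⊤ le_rfl (fun _ _ => Submodule.mem_top)
    (fun x _ hx => hI.nondeg x fun y => hx y Submodule.mem_top)
  obtain ⟨hv, hf⟩ := hd.facts hI
  refine ⟨l, hn, hd, hv, ?_⟩
  rw [← hf, finrank_top, Module.finrank_fintype_fun_eq_card, hι]

/-- The summand list of a class. -/
noncomputable def listOf (C : ConjClasses (Grp Q)) : List (Key K) := (exists_data_odd hB h2 hι C.out).choose

theorem listOf_spec (C : ConjClasses (Grp Q)) : Norm (listOf hB h2 hι C) ∧
    Decomp (equiv C.out) (QuadraticMap.polarBilin Q) (1 : K) ⊤ (listOf hB h2 hι C) ∧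
    (∀ k ∈ listOf hB h2 hι C, k.Valid (1 : K)) ∧ ((listOf hB h2 hι C).map Key.dim).sum = 2 * (m + 1) + 1 :=
  (exists_data_odd hB h2 hι C.out).choose_spec

theorem code_injective_class : Function.Injective (fun C : ConjClasses (Grp Q) => OrthClassBound.code (m + 1) (listOf hB h2 hι C)) := by
  intro C C' h
  obtain ⟨hn, hd, hv, hdim⟩ := listOf_spec hB h2 hι C
  obtain ⟨hn', hd', hv', hdim'⟩ := listOf_spec hB h2 hι C'
  have hp := code_inj' h2 (m + 1) hv hv' hn hn' (by omega) (by omega) h
  have hI := OrthClassBound.isom_equiv (fun v hv => hB v hv) C.out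
  have hc := OrthClassBound.isConj_of_giso (fun v hv => hB v hv) h2
    (Decomp.iso h2 hI (OrthClassBound.isom_equiv (fun v hv => hB v hv) C'.out) (hd.perm hI hp) hd')
  have := ConjClasses.mk_eq_mk_iff_isConj.mpr hc
  rwa [show ConjClasses.mk C.out = C from Quotient.out_eq C, show ConjClasses.mk C'.out = C' from Quotient.out_eq C']
    at this

/-- All classes of the full group give codes in pairs. -/
theorem two_mul_card_le :
    Finite {c : Raw K (m + 1) // IsCodeOdd m c} →
      2 * Nat.card (ConjClasses (Grp Q)) ≤ Nat.card {c : Raw K (m + 1) // IsCodeOdd m c} := by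
  intro hfin
  have hcode : ∀ C, IsCodeOdd m (OrthClassBound.code (m + 1) (listOf hB h2 hι C)) := fun C => by
    obtain ⟨hn, hd, hv, hdim⟩ := listOf_spec hB h2 hι C
    exact code_mem' h2 m hv hn hdim
  have huneq : ∀ c : Raw K (m + 1), IsCodeOdd m c → ∃ p, (c.2 p).1 ≠ (c.2 p).2 := fun c hc => by
    by_contra hne
    push Not at hne
    have hev : Even (wsum c.2) := Finset.even_sum _ fun p _ => by
      refine Even.mul_left ?_ _
      rw [nb, hne p]
      exact Even.add_self _
    obtain ⟨hpal, hsum⟩ := hc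
    have hev2 : Even (∑ e, (e.1 + 1) * (c.1 e).natDegree) := Finset.even_sum _ fun e _ => by
      obtain ⟨D, hD⟩ := hpal e
      rw [hD.2.1]
      exact (even_two_mul D).mul_left _
    rw [Nat.even_iff] at hev hev2
    omega
  let U : (Fin (m + 1 + 1) × Fin 2 → Bool × Bool) → Finset (Fin (m + 1 + 1) × Fin 2) :=
    fun b => Finset.univ.filter fun p => (b p).1 ≠ (b p).2
  let pos : Finset (Fin (m + 1 + 1) × Fin 2) → Fin (m + 1 + 1) × Fin 2 := fun s =>
    if h : s.Nonempty then h.choose else (0, 0)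
  let σ : Raw K (m + 1) → Raw K (m + 1) := fun c => flipAt (pos (U c.2)) c
  have hpos : ∀ c, IsCodeOdd m c → (c.2 (pos (U c.2))).1 ≠ (c.2 (pos (U c.2))).2 := fun c hc => by
    obtain ⟨p, hp⟩ := huneq c hc
    have hne : (U c.2).Nonempty := ⟨p, by simp [U, hp]⟩
    simp only [pos, dif_pos hne]
    exact (Finset.mem_filter.mp hne.choose_spec).2
  have hUσ : ∀ c : Raw K (m + 1), U (σ c).2 = U c.2 := fun c => by
    ext p
    simp only [U, σ, flipAt, Finset.mem_filter, Finset.mem_univ, true_and]
    by_cases hp : p = pos (U c.2)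
    · subst hp; simp [U, ne_comm]
    · simp [U] at hp ⊢; simp [Function.update_of_ne hp]
  have hσσ : ∀ c : Raw K (m + 1), σ (σ c) = c := fun c => by
    show flipAt (pos (U (σ c).2)) (σ c) = c
    rw [hUσ]
    refine Prod.ext rfl ?_
    simp [σ, flipAt]
  have hσcode : ∀ c, IsCodeOdd m c → IsCodeOdd m (σ c) := fun c ⟨hc1, hc2⟩ => by
    refine ⟨hc1, ?_⟩
    rw [show wsum (σ c).2 = wsum c.2 from Finset.sum_congr rfl fun p _ => by
      by_cases hp : p = pos (U c.2)
      · subst hp; simp [σ, flipAt, nb, add_comm]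
      · simp [σ, flipAt, Function.update_of_ne hp]]
    exact hc2
  let φ : ConjClasses (Grp Q) × Bool → {c : Raw K (m + 1) // IsCodeOdd m c} := fun x =>
    if x.2 then ⟨σ (OrthClassBound.code (m + 1) (listOf hB h2 hι x.1)), hσcode _ (hcode x.1)⟩
    else ⟨OrthClassBound.code (m + 1) (listOf hB h2 hι x.1), hcode x.1⟩
  have hdisj : ∀ C C', σ (OrthClassBound.code (m + 1) (listOf hB h2 hι C)) ≠ OrthClassBound.code (m + 1) (listOf hB h2 hι C') := by
    intro C C' heq
    obtain ⟨hn, hd, hv, hdim⟩ := listOf_spec hB h2 hι C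
    obtain ⟨hn', hd', hv', hdim'⟩ := listOf_spec hB h2 hι C'
    set p := pos (U (OrthClassBound.code (m + 1) (listOf hB h2 hι C)).2)
    obtain ⟨s, r, hperm, hN, hflip⟩ := exists_flip h2 (m + 1) p hn (hpos _ (hcode C))
    rw [← code_perm (m + 1) hperm] at hflip
    have hk := hv (Key.sgn (rootAt p) (sizeAt p) s) (hperm.mem_iff.mpr List.mem_cons_self)
    have hvL : ∀ k ∈ Key.sgn (rootAt p : K) (sizeAt p) (!s) :: r, k.Valid (1 : K) := fun k hk' => by
      rcases List.mem_cons.mp hk' with rfl | h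
      · exact hk
      · exact hv k (hperm.mem_iff.mpr (List.mem_cons_of_mem _ h))
    have hdL : ((Key.sgn (rootAt p : K) (sizeAt p) (!s) :: r).map Key.dim).sum = 2 * (m + 1) + 1 := by
      rw [← hdim, (hperm.map Key.dim).sum_eq]
      simp [Key.dim]
    have hI := OrthClassBound.isom_equiv (fun v hv => hB v hv) C.out
    have hI' := OrthClassBound.isom_equiv (fun v hv => hB v hv) C'.out
    exact flip_not_both h2 hI hI' (by cases s <;> simp : s ≠ !s) (hd.perm hI hperm)
      (hd'.perm hI' (code_inj' h2 (m + 1) hv' hvL hn' hN (by omega) (by omega) (heq.symm.trans hflip.symm)))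
  have hφ : Function.Injective φ := by
    rintro ⟨C, b⟩ ⟨C', b'⟩ h
    cases b <;> cases b' <;> simp only [φ, if_true, Bool.false_eq_true, if_false, Subtype.mk.injEq] at h
    · rw [code_injective_class hB h2 hι h]
    · exact absurd h.symm (hdisj C' C)
    · exact absurd h (hdisj C C')
    · rw [code_injective_class hB h2 hι ((Function.Involutive.injective hσσ) h)]
  have h := Nat.card_le_card_of_injective φ hφ
  rw [Nat.card_prod, Nat.card_eq_fintype_card (α := Bool), Fintype.card_bool] at h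
  omega

omit hι in
theorem good_conj {g : Grp Q} (hg : Good g) (c : Grp Q) : Good (c * g * c⁻¹) := by
  intro y hy hc
  have h1 : c⁻¹ * y * c ∈ Cfsg.specialIsometryGroup K ⇑Q := by
    have := (inferInstanceAs (MonoidHom.ker _).Normal : (Cfsg.specialIsometryGroup K ⇑Q).Normal).conj_mem y hy c⁻¹
    simpa using this
  have h2' : Commute g (c⁻¹ * y * c) := by
    have := congrArg (fun z => c⁻¹ * z * c) hc.eq
    simp only [Commute, SemiconjBy]
    simpa [mul_assoc] using this
  have h3 := (inferInstance : (Cfsg.Omega K ⇑Q).Normal).conj_mem _ (hg _ h1 h2') c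
  simpa [mul_assoc] using h3

/-- The codes of the classes with small centraliser are restricted. -/
theorem exists_split_codes :
    ∃ sg : Fin (m + 1 + 1) × Fin 2 → Bool, ∀ C : ConjClasses (Grp Q), Good C.out →
      (OrthClassBound.code (m + 1) (listOf hB h2 hι C)).2 ∈ splitBits m sg ∧
        (((OrthClassBound.code (m + 1) (listOf hB h2 hι C)).1 0).eval 1 * ((OrthClassBound.code (m + 1) (listOf hB h2 hι C)).1 0).eval (-1) ≠ 0 ∧
          IsSquare (((OrthClassBound.code (m + 1) (listOf hB h2 hι C)).1 0).eval 1 * ((OrthClassBound.code (m + 1) (listOf hB h2 hι C)).1 0).eval (-1))) := by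
  obtain ⟨hodd, hn2⟩ := dim_facts hB hι
  refine ⟨fun p => decide (∃ C : ConjClasses (Grp Q), Good C.out ∧
    Key.sgn (rootAt p : K) (sizeAt p) false ∈ listOf hB h2 hι C), fun C hC => ?_⟩
  obtain ⟨hn, hd, hv, hdim⟩ := listOf_spec hB h2 hι C
  set l := listOf hB h2 hι C with hl
  have hI := OrthClassBound.isom_equiv (fun v hv => hB v hv) C.out
  have hle : ∀ c e, l.count (Key.sgn c e true) + l.count (Key.sgn c e false) ≤ 1 := fun c e => by
    have h1 := count_le_one hn c e
    by_contra hgt
    by_cases hF : Key.sgn c e false ∈ l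
    · have hT : Key.sgn c e true ∈ l := List.count_pos_iff.mp (by omega)
      obtain ⟨S, hS⟩ := exists_key_of_mem hI hd hF
      obtain ⟨S', hS'⟩ := exists_key_of_mem hI hd hT
      exact Bool.false_ne_true (sgn_unique hB h2 hodd hn2 hC hC hS hS')
    · have h0 : l.count (Key.sgn c e false) = 0 := List.count_eq_zero_of_not_mem hF
      have hT : Key.sgn c e true ∈ l := List.count_pos_iff.mp (by omega)
      have hp := List.perm_cons_erase hT
      obtain ⟨S, W, hS, hW, ho, -⟩ := (hd.perm hI hp).cons_inv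
      have hcnt := hp.count_eq (Key.sgn c e true)
      simp [List.count_cons] at hcnt
      have hT' : Key.sgn c e true ∈ l.erase (Key.sgn c e true) :=
        List.count_pos_iff.mp (by rw [List.count_erase_self]; omega)
      obtain ⟨S', W', hS', hW', -, hWe⟩ := (hW.perm hI (List.perm_cons_erase hT')).cons_inv
      exact no_two_pos hB h2 hodd hn2 hC hS hS' fun s hs w hw => ho s hs w (hWe ▸ Submodule.mem_sup_left hw)
  refine ⟨?_, ?_⟩
  · simp only [splitBits, Fintype.mem_piFinset, OrthClassBound.code]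
    intro p
    have ha := hle (rootAt p) (sizeAt p)
    by_cases hF : Key.sgn (rootAt p : K) (sizeAt p) false ∈ l
    · have hF1 := List.count_pos_iff.mpr hF
      have hsg : decide (∃ C : ConjClasses (Grp Q), Good C.out ∧
          Key.sgn (rootAt p : K) (sizeAt p) false ∈ listOf hB h2 hι C) = true := decide_eq_true ⟨C, hC, hF⟩
      have hmod : ¬ (l.count (Key.sgn (rootAt p : K) (sizeAt p) true) +
          l.count (Key.sgn (rootAt p : K) (sizeAt p) false)) % 2 = 0 := by omega
      simp [bit, hmod, hF, hsg]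
    · by_cases hT : Key.sgn (rootAt p : K) (sizeAt p) true ∈ l
      · have hT1 := List.count_pos_iff.mpr hT
        have hsg : decide (∃ C : ConjClasses (Grp Q), Good C.out ∧
            Key.sgn (rootAt p : K) (sizeAt p) false ∈ listOf hB h2 hι C) = false := decide_eq_false (by
          rintro ⟨C', hC', hF'⟩
          obtain ⟨S, hS⟩ := exists_key_of_mem hI hd hT
          obtain ⟨-, hd', -, -⟩ := listOf_spec hB h2 hι C'
          obtain ⟨S', hS'⟩ := exists_key_of_mem (OrthClassBound.isom_equiv (fun v hv => hB v hv) C'.out) hd' hF'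
          exact Bool.false_ne_true (sgn_unique hB h2 hodd hn2 hC' hC hS' hS))
        have hmod : ¬ (l.count (Key.sgn (rootAt p : K) (sizeAt p) true) +
            l.count (Key.sgn (rootAt p : K) (sizeAt p) false)) % 2 = 0 := by omega
        simp [bit, hmod, hF, hsg]
      · simp [bit, List.count_eq_zero_of_not_mem hF, List.count_eq_zero_of_not_mem hT, hF]
  · have hh : ∀ c : K, halfMult l c 1 = 0 := fun c => by
      have hpr : l.count (Key.pr c 1) = 0 := List.count_eq_zero_of_not_mem fun h => by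
        have h' := (hv _ h).2.2
        rw [pow_one, one_mul] at h'
        exact h2 (by linear_combination -h')
      have ha := hle c 1
      simp only [halfMult, hpr, zero_add]
      split_ifs with h <;> omega
    have hcode : (OrthClassBound.code (m + 1) l).1 0 = genProd l 1 := by
      simp [OrthClassBound.code, codePoly, hh]
    rw [hcode]
    have key : ∀ l' : List (Key K), (∀ k ∈ l', k ∈ l) → (genProd l' 1).eval 1 * (genProd l' 1).eval (-1) ≠ 0 ∧
        IsSquare ((genProd l' 1).eval 1 * (genProd l' 1).eval (-1)) := by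
      intro l'
      induction l' with
      | nil => intro _; simp [genProd]
      | cons k l' ih =>
        intro hsub
        obtain ⟨h1, h2'⟩ := ih fun x hx => hsub x (List.mem_cons_of_mem _ hx)
        have hk := hsub k List.mem_cons_self
        obtain ⟨-, -, g1, g2⟩ := genPart_facts (hv k hk) 1
        have hsq : IsSquare ((k.genPart 1).eval 1 * (k.genPart 1).eval (-1)) := by
          match k, hk with
          | .gen p e', hk =>
            simp only [Key.genPart]
            split_ifs with he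
            · subst he
              obtain ⟨S, hS⟩ := exists_key_of_mem hI hd hk
              exact gen_one hB h2 hodd hn2 hC hS
            · simp
          | .sgn _ _ _, _ => simp [Key.genPart]
          | .pr _ _, _ => simp [Key.genPart]
        rw [genProd_cons, eval_mul, eval_mul, mul_mul_mul_comm]
        exact ⟨mul_ne_zero (mul_ne_zero g1 g2) h1, hsq.mul h2'⟩
    exact key l fun _ h => h

theorem exists_neg_one : ∃ Z : Grp Q, (∀ g, Commute Z g) ∧ dickson hB Z = -1 ∧ Z * Z = 1 := by
  obtain ⟨hodd, hn2⟩ := dim_facts hB hι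
  obtain ⟨Z, hZ⟩ := OrthClassBound.mem_of_polar (Q := Q) h2 (g := LinearEquiv.neg K) fun x y => by simp
  have hap : ∀ x, ap Z x = -x := fun x => by
    rw [show ap Z x = equiv Z x from (OrthClassBound.equiv_apply Z x).symm, hZ]; rfl
  have hext : ∀ a b : Grp Q, (∀ x, ap a x = ap b x) → a = b := fun a b h =>
    Subtype.ext (Units.ext (Matrix.toLin'.injective (LinearMap.ext h)))
  refine ⟨Z, fun g => hext _ _ fun x => by rw [ap_mul, ap_mul, hap, hap, ← neg_one_smul K x, ap_smul, neg_one_smul],
    ?_, hext _ _ fun x => by rw [ap_mul, hap, hap, neg_neg, ap_one]⟩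
  rcases Int.units_eq_one_or (dickson hB Z) with h | h
  · exfalso
    have hdet : Z ∈ Cfsg.specialIsometryGroup K ⇑Q :=
      (mem_special_iff_odd hB h2 (fun h4 => by obtain ⟨k, hk⟩ := hodd; omega) Z).2 h
    have hm : ((Z : GL ι K) : Matrix ι ι K) = -1 := Matrix.toLin'.injective (LinearMap.ext fun x => by
      rw [Matrix.toLin'_apply, Matrix.toLin'_apply, neg_mulVec, one_mulVec]
      exact hap x)
    have hd : ((Z : GL ι K) : Matrix ι ι K).det = 1 := congrArg Units.val (show Matrix.GeneralLinearGroup.det (Z : GL ι K) = 1 from hdet)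
    rw [hm, det_neg, det_one, mul_one, hι, (odd_two_mul_add_one (m + 1)).neg_one_pow] at hd
    exact h2 (by linear_combination -hd)
  · exact h

theorem card_special_le :
    2 * Nat.card (ConjClasses (Cfsg.specialIsometryGroup K ⇑Q)) ≤ Nat.card (ConjClasses (Grp Q)) ∧
      2 * Nat.card {C : ConjClasses (Cfsg.specialIsometryGroup K ⇑Q) //
          Splits ((Cfsg.Omega K ⇑Q).subgroupOf (Cfsg.specialIsometryGroup K ⇑Q)) C} ≤
        Nat.card {C : ConjClasses (Grp Q) // Good C.out} := by
  obtain ⟨hodd, hn2⟩ := dim_facts hB hι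
  obtain ⟨Z, hZc, hZd, hZZ⟩ := exists_neg_one hB h2 hι
  have hiff : ∀ g : Grp Q, g ∈ Cfsg.specialIsometryGroup K ⇑Q ↔ dickson hB g = 1 :=
    mem_special_iff_odd hB h2 fun h4 => by obtain ⟨k, hk⟩ := hodd; omega
  let z : Bool → Grp Q := fun b => if b then Z else 1
  let φ : ConjClasses (Cfsg.specialIsometryGroup K ⇑Q) × Bool → ConjClasses (Grp Q) :=
    fun x => ConjClasses.mk (z x.2 * (x.1.out : Grp Q))
  have hφ : Function.Injective φ := by
    rintro ⟨C, b⟩ ⟨C', b'⟩ h
    obtain ⟨c, hc⟩ := isConj_iff.mp (ConjClasses.mk_eq_mk_iff_isConj.mp h)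
    have hd := congrArg (dickson hB) hc
    simp only [map_mul, map_inv, (hiff _).mp C.out.2, (hiff _).mp C'.out.2, mul_one, mul_inv_cancel_comm] at hd
    have hb : b = b' := by
      cases b <;> cases b' <;> simp [z, hZd] at hd ⊢
    subst hb
    have hcomm : c * z b = z b * c := by
      cases b
      · simp [z]
      · exact ((hZc c).symm).eq
    have hc' : c * (C.out : Grp Q) * c⁻¹ = C'.out := by
      rw [← mul_assoc, hcomm, mul_assoc (z b), mul_assoc (z b)] at hc
      exact mul_left_cancel hc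
    obtain ⟨d, hd1, hd2⟩ : ∃ d : Grp Q, dickson hB d = 1 ∧ d * (C.out : Grp Q) * d⁻¹ = C'.out := by
      rcases Int.units_eq_one_or (dickson hB c) with h1 | h1
      · exact ⟨c, h1, hc'⟩
      · refine ⟨c * Z, by rw [map_mul, h1, hZd]; rfl, ?_⟩
        rw [← hc', _root_.mul_inv_rev, mul_assoc c Z, (hZc (C.out : Grp Q)).eq]
        simp [mul_assoc]
    have : IsConj C.out C'.out := isConj_iff.mpr ⟨⟨d, (hiff d).mpr hd1⟩, Subtype.ext hd2⟩
    have := ConjClasses.mk_eq_mk_iff_isConj.mpr this
    rw [show ConjClasses.mk C.out = C from Quotient.out_eq C, show ConjClasses.mk C'.out = C' from Quotient.out_eq C']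
      at this
    rw [this]
  constructor
  · have h := Nat.card_le_card_of_injective φ hφ
    rw [Nat.card_prod, Nat.card_eq_fintype_card (α := Bool), Fintype.card_bool] at h
    omega
  · have hgood : ∀ (C : {C : ConjClasses (Cfsg.specialIsometryGroup K ⇑Q) //
        Splits ((Cfsg.Omega K ⇑Q).subgroupOf (Cfsg.specialIsometryGroup K ⇑Q)) C}) (b : Bool),
        Good (φ (C.1, b)).out := by
      intro C b
      obtain ⟨c, hc⟩ := isConj_iff.mp (ConjClasses.mk_eq_mk_iff_isConj.mp
        (show ConjClasses.mk (z b * (C.1.out : Grp Q)) = ConjClasses.mk (φ (C.1, b)).out from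
          (Quotient.out_eq (φ (C.1, b))).symm))
      rw [← hc]
      refine good_conj hB h2 (fun y hy hcy => ?_) c
      have hzy : Commute (C.1.out : Grp Q) y := by
        cases b
        · simpa [z] using hcy
        · have h1 : Commute (Z * (Z * (C.1.out : Grp Q))) y := Commute.mul_left (hZc y) hcy
          rwa [← mul_assoc, hZZ, one_mul] at h1
      exact Subgroup.mem_subgroupOf.mp (C.2 C.1.out (Quotient.out_eq C.1) ⟨y, hy⟩ (Subtype.ext hzy.eq))
    let ψ : {C : ConjClasses (Cfsg.specialIsometryGroup K ⇑Q) //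
        Splits ((Cfsg.Omega K ⇑Q).subgroupOf (Cfsg.specialIsometryGroup K ⇑Q)) C} × Bool →
        {C : ConjClasses (Grp Q) // Good C.out} := fun x => ⟨φ (x.1.1, x.2), hgood x.1 x.2⟩
    have hψ : Function.Injective ψ := fun x y h => by
      have := hφ (congrArg Subtype.val h)
      obtain ⟨h1, h2⟩ := Prod.mk.inj this
      exact Prod.ext (Subtype.ext h1) h2
    have h := Nat.card_le_card_of_injective ψ hψ
    rw [Nat.card_prod, Nat.card_eq_fintype_card (α := Bool), Fintype.card_bool] at h
    omega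

theorem pow_le_card_special :
    Fintype.card K ^ (m + 1) ≤ Nat.card (ConjClasses (Cfsg.specialIsometryGroup K ⇑Q)) := by
  let B := QuadraticMap.polarBilin Q
  let bV := Pi.basisFun K ι
  have hex : ∀ f : {f : K[X] // SympClassCount.IsPal (m + 1) f}, ∃ A : Grp Q,
      A ∈ Cfsg.specialIsometryGroup K ⇑Q ∧ ((A : GL ι K) : Matrix ι ι K).charpoly = f.1 * (X - C 1) := by
    rintro ⟨f, hf⟩
    obtain ⟨k, a, b, g, hg, hg1, hgn, hfg, hsum⟩ := exists_pal_factor h2 hf
    obtain ⟨M, A, hMt, hM0, -, hA, hAc⟩ := exists_model h2 hg hg1 hgn (fun _ : Fin (2 * a) ⊕ Fin (2 * b) => (1 : K))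
      (fun _ => one_ne_zero)
    have hδ : (LinearMap.toMatrix₂ bV bV B).det ≠ 0 := SymmDisc.det_ne_zero B (fun v hv => hB v hv) bV
    let M' := Matrix.fromBlocks M 0 0 (Matrix.diagonal fun _ : Unit => (LinearMap.toMatrix₂ bV bV B).det * M.det)
    let A' := Matrix.fromBlocks A 0 0 (1 : Matrix Unit Unit K)
    have hM'det : M'.det = M.det * ((LinearMap.toMatrix₂ bV bV B).det * M.det) := by
      simp [M', Matrix.det_fromBlocks_zero₁₂]
    have hM'0 : M'.det ≠ 0 := by rw [hM'det]; exact mul_ne_zero hM0 (mul_ne_zero hδ hM0)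
    have hA' : A'ᵀ * M' * A' = M' := by
      simp only [A', M', fromBlocks_transpose, fromBlocks_multiply, transpose_zero, transpose_one, Matrix.mul_zero,
        Matrix.zero_mul, add_zero, zero_add, hA, Matrix.one_mul, Matrix.mul_one]
    have hM't : M'ᵀ = M' := by simp [M', fromBlocks_transpose, hMt]
    have hA'0 : A'.det ≠ 0 := fun h => hM'0 (by rw [← hA', det_mul, h, mul_zero])
    have hA'u : IsUnit A' := (Matrix.isUnit_iff_isUnit_det _).mpr hA'0.isUnit
    have hC0 : ∀ v, (∀ w, Matrix.toBilin' M' v w = 0) → v = 0 := fun v hv => by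
      refine Matrix.eq_zero_of_vecMul_eq_zero hM'0 (dotProduct_eq_zero _ fun w => ?_)
      rw [← dotProduct_mulVec, ← Matrix.toBilin'_apply']
      exact hv w
    have hCs : ∀ x y, Matrix.toBilin' M' x y = Matrix.toBilin' M' y x := fun x y => by
      rw [Matrix.toBilin'_apply', Matrix.toBilin'_apply', dotProduct_mulVec, ← mulVec_transpose, hM't, dotProduct_comm]
    obtain ⟨φ, hφ⟩ := exists_congr h2 (N := 2 * (m + 1)) B (fun x y => QuadraticMap.polar_comm _ _ _)
      (fun v hv => hB v hv) (Matrix.toBilin' M') hCs hC0 (by rw [Module.finrank_fintype_fun_eq_card, hι])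
      (by simp only [Module.finrank_fintype_fun_eq_card, Fintype.card_sum, Fintype.card_fin, Fintype.card_unit]; omega) bV
      (Pi.basisFun K _) (by
        have e : LinearMap.toMatrix₂ (Pi.basisFun K ((((Fin k ⊕ Fin k) ⊕ (Fin (2 * a) ⊕ Fin (2 * b)))) ⊕ Unit))
            (Pi.basisFun K _) (Matrix.toBilin' M') = M' := by
          ext i j
          rw [LinearMap.toMatrix₂_apply, Pi.basisFun_apply, Pi.basisFun_apply, Matrix.toBilin'_single]
        rw [e, hM'det]
        exact ⟨(LinearMap.toMatrix₂ bV bV B).det * M.det, by ring⟩)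
    let eA := LinearEquiv.ofBijective (Matrix.toLin' A')
      ⟨Matrix.mulVec_injective_iff_isUnit.mpr hA'u, Matrix.mulVec_surjective_iff_isUnit.mpr hA'u⟩
    have hinv : ∀ u v, Matrix.toBilin' M' (Matrix.toLin' A' u) (Matrix.toLin' A' v) = Matrix.toBilin' M' u v :=
      fun u v => LinearMap.congr_fun₂ ((Matrix.toBilin'_comp M' A' A').trans (by rw [hA'])) u v
    obtain ⟨G, hG⟩ := OrthClassBound.mem_of_polar (Q := Q) h2 (g := (φ.symm.trans eA).trans φ) fun x y => by
      show B (φ (Matrix.toLin' A' (φ.symm x))) (φ (Matrix.toLin' A' (φ.symm y))) = B x y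
      rw [hφ, hinv, ← hφ, φ.apply_symm_apply, φ.apply_symm_apply]
    have hch : ((G : GL ι K) : Matrix ι ι K).charpoly = f * (X - C 1) := by
      rw [← Matrix.charpoly_toLin', show Matrix.toLin' ((G : GL ι K) : Matrix ι ι K) = φ.conj (Matrix.toLin' A') from
        LinearMap.ext fun x => by rw [Matrix.toLin'_apply, ← OrthClassBound.equiv_apply]; exact hG x,
        LinearEquiv.charpoly_conj, Matrix.charpoly_toLin', Matrix.charpoly_fromBlocks_zero₁₂, hAc, hfg,
        Matrix.charpoly_one]
      simp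
    refine ⟨G, ?_, hch⟩
    show Matrix.GeneralLinearGroup.det (G : GL ι K) = 1
    refine Units.ext ?_
    show ((G : GL ι K) : Matrix ι ι K).det = 1
    rw [Matrix.det_eq_sign_charpoly_coeff, hch, hι, (odd_two_mul_add_one (m + 1)).neg_one_pow, mul_coeff_zero, hf.2.2.1]
    simp
  choose A hAS hAc using hex
  rw [← SympClassCount.card_pal (F := K) (n := m + 1) rfl]
  refine Nat.card_le_card_of_injective (fun f => ConjClasses.mk (⟨A f, hAS f⟩ : Cfsg.specialIsometryGroup K ⇑Q))
    fun f f' h => Subtype.ext (mul_right_cancel₀ (X_sub_C_ne_zero (1 : K)) ?_)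
  obtain ⟨c, hc⟩ := isConj_iff.mp (ConjClasses.mk_eq_mk_iff_isConj.mp h)
  have hc' : ((c : Grp Q) : GL ι K) * (A f : GL ι K) * ((c : Grp Q) : GL ι K)⁻¹ = (A f' : GL ι K) :=
    congrArg (fun z : Cfsg.specialIsometryGroup K ⇑Q => ((z : Grp Q) : GL ι K)) hc
  rw [← hAc f, ← hAc f', ← hc']
  simp only [Units.val_mul]
  rw [Matrix.coe_units_inv, Matrix.charpoly_units_conj]

/-- Class numbers of `Ω` in odd dimension at least five. -/
theorem omega_bounds (hm : 1 ≤ m) (hq : Odd (Fintype.card K)) :
    Fintype.card K ^ (m + 1) ≤ 2 * Nat.card (ConjClasses (Cfsg.Omega K ⇑Q)) ∧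
      10 * Nat.card (ConjClasses (Cfsg.Omega K ⇑Q)) ≤ 73 * Fintype.card K ^ (m + 1) := by
  obtain ⟨hodd, hn2⟩ := dim_facts hB hι
  set H := (Cfsg.Omega K ⇑Q).subgroupOf (Cfsg.specialIsometryGroup K ⇑Q)
  have hH : H.index = 2 := index_omega_special hB hn2 fun h4 => by obtain ⟨k, hk⟩ := hodd; omega
  obtain ⟨i1, i2, i3⟩ := index_two_bounds hH
  let e : H ≃* Cfsg.Omega K ⇑Q := Subgroup.subgroupOfEquivOfLe omega_le_special
  have hcongr : Nat.card (ConjClasses (Cfsg.Omega K ⇑Q)) = Nat.card (ConjClasses H) :=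
    Nat.card_congr (Quotient.congr e.symm.toEquiv fun a b => by
      show IsConj a b ↔ IsConj (e.symm a) (e.symm b)
      refine ⟨fun h => e.symm.toMonoidHom.map_isConj h, fun h => ?_⟩
      have h' := e.toMonoidHom.map_isConj h
      simpa using h')
  rw [hcongr]
  have hlow := pow_le_card_special hB h2 hι
  obtain ⟨hSO, hsplit⟩ := card_special_le hB h2 hι
  refine ⟨by omega, ?_⟩
  set q := Fintype.card K with hqdef
  have hq1 : 1 < q := Fintype.one_lt_card
  rw [← Nat.cast_le (α := ℚ)]
  push_cast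
  by_cases hq3 : q = 3
  · obtain ⟨hfinA, hA⟩ := card_all (K := K) m (x := 1 / 3) (r := rr) (c := 3 / 2) (c' := 3 / 2 * (1 + 1 / 1000))
      (by norm_num) (by norm_num) (by norm_num) (by norm_num) (by norm_num [rr]) (by norm_num [rr]) (by norm_num [rr])
      (by norm_num [rr]) (by norm_num [rr]) (by rw [← hqdef, hq3]; norm_num) (by rw [← hqdef, hq3]; norm_num [rr])
    have hO := two_mul_card_le hB h2 hι hfinA
    obtain ⟨sg, hsg⟩ := exists_split_codes hB h2 hι
    obtain ⟨hfinS, hS⟩ := card_split (K := K) hq3 h2 hm sg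
    have hSC : Nat.card {C : ConjClasses (Grp Q) // Good C.out} ≤
        Nat.card {c : Raw K (m + 1) // IsCodeOdd m c ∧ c.2 ∈ splitBits m sg ∧
          ((c.1 0).eval 1 * (c.1 0).eval (-1) ≠ 0 ∧ IsSquare ((c.1 0).eval 1 * (c.1 0).eval (-1)))} :=
      Nat.card_le_card_of_injective (fun C => ⟨OrthClassBound.code (m + 1) (listOf hB h2 hι C.1), by
        obtain ⟨hn, hd, hv, hdim⟩ := listOf_spec hB h2 hι C.1
        exact ⟨code_mem' h2 m hv hn hdim, hsg C.1 C.2⟩⟩)
        fun C C' h => Subtype.ext (code_injective_class hB h2 hι (congrArg Subtype.val h))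
    have hN : (10 : ℚ) * Nat.card (ConjClasses H) ≤ 10 * (1 / 8 * Nat.card {c : Raw K (m + 1) // IsCodeOdd m c} +
        3 / 4 * Nat.card {c : Raw K (m + 1) // IsCodeOdd m c ∧ c.2 ∈ splitBits m sg ∧
          ((c.1 0).eval 1 * (c.1 0).eval (-1) ≠ 0 ∧ IsSquare ((c.1 0).eval 1 * (c.1 0).eval (-1)))}) := by
      have hsplit' : 2 * Nat.card {C : ConjClasses (Cfsg.specialIsometryGroup K ⇑Q) // Splits H C} ≤
          Nat.card {C : ConjClasses (Grp Q) // Good C.out} := hsplit
      have h8 : 8 * Nat.card (ConjClasses H) ≤ Nat.card {c : Raw K (m + 1) // IsCodeOdd m c} +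
          6 * Nat.card {c : Raw K (m + 1) // IsCodeOdd m c ∧ c.2 ∈ splitBits m sg ∧
            ((c.1 0).eval 1 * (c.1 0).eval (-1) ≠ 0 ∧ IsSquare ((c.1 0).eval 1 * (c.1 0).eval (-1)))} := by omega
      have h8' := (Nat.cast_le (α := ℚ)).mpr h8
      push_cast at h8'
      linarith
    have hnum := mul_le_mul_of_nonneg_left numeric_three (a := (q : ℚ) ^ (m + 1)) (by positivity)
    have hA' : (Nat.card {c : Raw K (m + 1) // IsCodeOdd m c} : ℚ) ≤ (q : ℚ) ^ (m + 1) * (minusProd *
        ((((∏ i ∈ Finset.range 6, (1 + rr ^ (2 * i + 1))) * (1 / (1 - 3 / 2 * (1 + 1 / 1000) * rr ^ 13))) ^ 4 -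
          ((∏ i ∈ Finset.range 6, (1 - rr ^ (2 * i + 1))) * (1 - 3 / 2 * (1 + 1 / 1000) * rr ^ 13)) ^ 4) / (2 * rr))) := hA
    linarith
  · have hq5 : 5 ≤ q := by
      rw [Nat.odd_iff] at hq
      omega
    have hq5' : (5 : ℚ) ≤ q := by exact_mod_cast hq5
    have h5 : (1 / (q : ℚ)) ≤ 1 / 5 := one_div_le_one_div_of_le (by norm_num) hq5'
    obtain ⟨hfinA, hA⟩ := card_all (K := K) m (x := 1 / 5) (r := 4473 / 10000) (c := 5 / 4) (c' := 2)
      (by norm_num) (by norm_num) (by norm_num) (by norm_num) (by norm_num) (by norm_num) (by norm_num)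
      (by norm_num) (by norm_num) h5 (h5.trans (by norm_num))
    have hO := two_mul_card_le hB h2 hι hfinA
    have h : 2 * Nat.card (ConjClasses H) ≤ Nat.card {c : Raw K (m + 1) // IsCodeOdd m c} := by omega
    have h' := (Nat.cast_le (α := ℚ)).mpr h
    push_cast at h'
    have hnum := mul_le_mul_of_nonneg_left numeric_five (a := (q : ℚ) ^ (m + 1)) (by positivity)
    linarith [hA.trans hnum]

end CfsgLib.Classical.OmegaOddClassBound
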